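import Cfsg.Agent.Fischer.Rank22
import Cfsg.Agent.SporRec.GF4
import Cfsg.Agent.SporadicStructure.UnitTwo
import Cfsg.Agent.S0280
import Cfsg.Prelude.Def_Sporadic
set_option linter.all false

-- part: Fischer/Vec22
section
/-!
# Fi22: the 693 points commuting with the base point as isotropic points of `F4 ^ 6`: data and checks
-/

set_option autoImplicit false

namespace Cfsg.Agent.Fischer.Vec22

open Cfsg.Agent.Fischer.Cert Cfsg.Agent.SporRec.GF4 Cfsg.Agent.SporRec.GF4.F4

/-- vectors of the points 2817, 2818, ..., 3509 -/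
def VT : ℕ := nat_lit 0x984681849285981249f44cd4a4492413dc710a5a50621819374e9dde9f056844cd3d1b6da059097b9af5555a41cd1219cc53d4624c74a14885bb54a13711f41cddc4d3143d921189db9864dd93f1b5df41f69f1406907da7d7a9cf4b9d914301ae52259900957e9bdd6118399ed12d70de6debdc616096f9364f905750ddf11bbddc1a11f59e79894c01099cf10d03c57d07d94a4e5dd34911cb10597c46e9489eb5ed02641a11f16144f4491731fb5c3534d1298548613f4da9d099bdc649dde0dadd06da6df99f34a340c1ba53042393b4eddd69f65fd95edfed825690be521542dd0d6edd21dad3619f91e4fd531dfb9afdc043b17c1b7929400d8910fdd24119b0df31abd0bd310dd0bd51a4d9da7976d734cb4851e31a0dc4d4292619e9c496bdbd06dd4f14941917bd33525490def59509aded92f4e697098b4c8d0b9f9d59da310c45c4ea59009d076996dde5579ee5815c257ad7211e14e47ddc1dae9ef90098042f1291724419f0933deb98d48cd0d923dc10425f50ed579d9b9d6d251e34e09b3184d88d6fd6adbd98f4b693492b438d0f51949d9dbd65060dbf5d50b50b0565d8b14c97445e9d958405c1d006d0b6566d7e5975fa53254e1969ddd22deadca1b44021f84bf9ba98012042a48f1b59c3dbb92d4cc98d1b14024339f812cd31983d125f956b9b09b34c8924d28d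9fd7f9ca4b4195d2b11c9d44e7d5906d948d750e05e50e558c57417909e57952401c5c40e655adf5d6750e5669c540adb24524ec482de21e44e84351bad3a1bfd9c4a81714a904d1a84ea92012a10848a40f9e59af9e413e1d90641185b755f9aa92d1394c393c9b11e14521ec1c19065ab58c918de243894d4e81b7d354df93a4d599c1d417995d0ad5c85b552c53453406e56d54c5da55a95b5a65ff9c51d14fa92e18e4bc4b21464c29d841d1b84174ff5aedefd6c4289c2d711fd00d5aad0818a1581a24a5dd99fad779644ce12e4d819413e4e753852457b54859f555d391c94bc1e1146181dfe52c91d4b81171f797596c114db950759d5c457a54357059a559505dd1132dee997d079b997843cd8e1164329979ac44747fdfbd889439315a756b50a9584a21f2199dce4e95eedd799440ed67d781149e90db58456f52105f5605d55c9116121d7edaa5ac14719595d944d135a55d056a569565505011d139c15be9871e99fc1ad9ccd0e9679d5d534dfda098359b5f557655a57d5505229f2469d874b90090bedfc45bd4498109057557757f509dded6a953165950d99595511041d9312355e5271a9d031f0d5b975df7dffdd65dd5665445829934274ad05d5fe9034509d75df5415f6d9a95995594106310b55651b156da99a595dd0119651451406341b4f75ab957d5fd115a690144b1a959995695145414404b477d055fdd511544699550454044500d7d451041154104151101404401005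

/-- labels of the isotropic vectors -/
def LT : ℕ := nat_lit 0xd99c29b46000bd5b8cc01000b33beabf3000000000000b0ed63b2cd24000b21b1bb3c000cd5b4cbce000000000000c3bb2fb22b12000b2dc1ed26000b19d07d17000000000000bec000000000b10000000000c39000000000b62b17c3db79000b3db1ebac000b2ac02d15000b88d32d41000000000000c0fb93b2bbe3000b20b85bfe000c2abe5c8f000000000000da8b4ed00ce0000d25ba8d31000c99d7bc70000000000000d64000000000cdc000000000dad000000000c85c96d98c75000bbdccbb47000cdfd75bc9000b34bf2b23000000000000c60c03b78b36000b61c0ed7f000b49d34d27000000000000b3eb6cc31c4f000c50d9ad5d000c04d14b6e000000000000cba000000000ba5000000000baf000000000dafbe7b8bd80000000000000b18000000000be6000000000d30b11ba4d08000000000000b73000000000d91000000000b68b57d5eba3000000000000c48000000000d2f000000000d7ec22cded61000b6ab71b4a000b55d9dcc3000b3acfada2000000000000b0bb5db35bf1000b48bbecca000bc8ce8cea000000000000c5db5cb1ab9f000b14b54bb9000be2ba2cd4000000000000d73b6dcb7d29000cffb6fce7000cd8d38cb9000000000000d49000000000c9a000000000db5000000000c47c58db1c2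1000b6bc8cd69000ccdb28cc1000d54cd7d4a000000000000d55b5bb89c89000badb53c38000c68c65cdb000000000000ce9c91bb0da4000b8dc90b7a000d71bb8ba0000000000000b98000000000d4d000000000b9d000000000c43d11bddc18000c55cf6c61000cb8c56d5c000c10d6dbdb000000000000c57bd8ca5d6a000ceebc3ce5000d9bd36c51000000000000cd9bc1d19d52000cd1bd6c32000d7ac69c5a000000000000c5b000000000bb5000000000c3e000000000c44b9ac12c30000000000000c3c000000000dac000000000cb4bedd87cfb000000000000cfe000000000d77000000000c1bd42d50c45000000000000cc5000000000b40000000000c23cd0b50bd1000bbfd9cd35000d6bb5ecb3000ce4cebc5c000000000000cdab81c83b72000c9dd2dc15000b56c41b38000000000000ca3c4ebb6b59000b9bbc5da3000b75d78cd6000000000000b65b43c7cc8b000c92d8fd83000c4cd60b44000000000000d04000000000be1000000000bf5000000000d8ac2dbcbd5f000c07cabca4000cf2c93d85000c5fd9eb97000000000000c94b95c7ed1b000cafc0cd3a000d66d81c05000000000000c9fc08d10d01000d1dc2bbe4000d4cc17c98000000000000c2e000000000bf0000000000c87000000000bf7bc7c66bde000b82b7cb0a000b67d21b9e000b0fb63b39000000000000d22ba7cadcb6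000cf4d03d28000c6fd70b45000000000000cf3b83c84b74000caeca1c13000b58c3fb91000000000000ca0000000000da1000000000bfb000000000c62db4bd2c11000000000000d45000000000c49000000000d51d6fbfad89000000000000b25000000000c78000000000d0bb31c24d1c000000000000d93000000000c6d000000000bffda7cb2bbb000b92c6ed1e000ca2c9ed39000d67d09b84000000000000c95000000000b0d000000000c34000000000d79b09be8d58000000000000bae000000000d5b000000000ba1b8ad0dbe0000000000000bf9000000000ce3000000000daebd0c9cd97000b42babb77000b87d90c7a000b60cb0d95000000000000b16000000000c19000000000d84000000000cfdc3ad3cd4f000000000000d44000000000d3d000000000c67cf1cfcc88000000000000cce000000000b66000000000bd3c8db7bb90000c06db3ce2000da0b96c6c000c9bcb1c0d000000000000c97000000000cf0000000000bfc000000000d92d43bb3daa000000000000b15000000000cc0000000000d37b1cc79d68000000000000d53000000000cac000000000c4bd8ec7fc00000bd7c1dcf9000c5ec59cf5000d4bcbfbc2000000000000c52b37b41c7d000b51d23c26000cc4c46d40000000000000b32bc0da6bee000d88cd3bf8000baabcfcd2000000000000b5fcbbd6eccc000d1fb70c200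00cf8c72b7d000000000000cbc000000000b03000000000cc8000000000d13b02c82d5a000b91b58c3f000b74b83c84000c13caeca1000000000000ca0b39b0fb63000b0ab82b7c000b9eb67d21000000000000d22b45c6fd70000cb6ba7cad000d28cf4d03000000000000cf3000000000c62000000000da1000000000bfbc11db4bd2000b44c4cd60000c8bb43c7c000d83c92d8f000000000000d04b38b56c41000b72b81c83000c15c9dd2d000000000000ca3cd6b75d78000b59c4ebb6000da3b9bbc5000000000000b65000000000d8a000000000be1000000000bf5d5fc2dbcb000c98d4cc17000d01c08d10000be4d1dc2b000000000000c2eb97c5fd9e000ca4c07cab000d85cf2c93000000000000c94c05d66d81000d1bb95c7e000d3acafc0c000000000000c9f000000000bf7000000000bf0000000000c87bdebc7c66000000000000bff000000000d93000000000c6dbbbda7cb2000000000000d51000000000d45000000000c49d89d6fbfa000000000000d0b000000000b25000000000c78d1cb31c24000b84d67d09000d1eb92c6e000d39ca2c9e000000000000c95b6ec04d14000c4fb6cc31000d5dc50d9a000000000000cbab23b34bf2000b47bbdccb000bc9cdfd75000000000000c60d27b49d34000b36c03b78000d7fb61c0e000000000000b3e000000000daf000000000ba5000000000ba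fd80be7b8b000d17b19d07000b12b2fb22000d26b2dc1e000000000000becbf3b33bea000b46d99c29000c01bd5b8c000000000000b0ebcecd5b4c000d24d63b2c000b3cb21b1b000000000000c3b000000000b62000000000b10000000000c39b79b17c3d000c70c99d7b000ce0b4ed00000d31d25ba8000000000000d64d41b88d32000bacb3db1e000d15b2ac02000000000000c0fc8fc2abe5000be3b93b2b000bfeb20b85000000000000da8000000000c85000000000cdc000000000dadc75c96d98000000000000d7e000000000c48000000000d2fd61c22cde000000000000d30000000000b18000000000be6d08b11ba4000000000000b68000000000b73000000000d91ba3b57d5e000da2b3acfa000b4ab6ab71000cc3b55d9d000000000000b0bc5ad7ac69000d52bc1d19000c32cd1bd6000000000000c5bbdbc10d6d000c61c55cf6000d5ccb8c56000000000000c57c51d9bd36000d6abd8ca5000ce5ceebc3000000000000cd9000000000c44000000000bb5000000000c3ec30b9ac12000cb9cd8d38000d29b6dcb7000ce7cffb6f000000000000d49ceabc8ce8000bf1b5db35000ccab48bbe000000000000c5dcd4be2ba2000b9fb5cb1a000bb9b14b54000000000000d73000000000c47000000000c9a000000000db5c21c58db1000ba0d71bb8000da4c91bb0000b7ab8dc90000000000000b98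d4ad54cd7000d69b6bc8c000cc1ccdb28000000000000d55cdbc68c65000c89b5bb89000c38badb53000000000000ce9000000000c43000000000d4d000000000b9dc18d11bdd000000000000c23000000000cc5000000000b40bd1cd0b50000000000000cb4000000000c3c000000000daccfbbedd87000000000000c1b000000000cfe000000000d77c45d42d50000c5cce4ceb000d35bbfd9c000cb3d6bb5e000000000000cda000000000c4b000000000d53000000000cacc00d8ec7f000000000000d92000000000cf0000000000bfcdaad43bb3000000000000d37000000000b15000000000cc0d68b1cc79000bc2d4bcbf000cf9bd7c1d000cf5c5ec59000000000000c52000000000dae000000000bf9000000000ce3d97bd0c9c000000000000d79000000000b0d000000000c34d58b09be8000000000000ba1000000000bae000000000d5bbe0b8ad0d000d95b60cb0000b77b42bab000c7ab87d90000000000000b16000000000bd3000000000cce000000000b66b90c8db7b000000000000cfd000000000c19000000000d84d4fc3ad3c000000000000c67000000000d44000000000d3dc88cf1cfc000c0dc9bcb1000ce2c06db3000c6cda0b96000000000000c97b7dcf8c72000ccccbbd6e000c20d1fb70000000000000cbcd40cc4c46000c7db37b41000c26b51d23000000000000b32cd2baabcf000b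eebc0da6000bf8d88cd3000000000000b5f000000000d13000000000b03000000000cc8d5ab02c82000b53c38bad000c65cdbc68000b89c89b5b000000000000ce9c90b7ab8d000bb8ba0d71000bb0da4c91000000000000b98b28cc1ccd000cd7d4ad54000c8cd69b6b000000000000d55000000000b9d000000000c43000000000d4dbddc18d11000bc3ce5cee000d36c51d9b000ca5d6abd8000000000000cd9bd6c32cd1000c69c5ad7a000d19d52bc1000000000000c5bc56d5ccb8000d6dbdbc10000cf6c61c55000000000000c57000000000c3e000000000c44000000000bb5c12c30b9a000b54bb9b14000ba2cd4be2000b1ab9fb5c000000000000d73b6fce7cff000d38cb9cd8000cb7d29b6d000000000000d49bbeccab48000ce8ceabc8000b35bf1b5d000000000000c5d000000000db5000000000c47000000000c9adb1c21c58000000000000d77000000000c1b000000000cfed50c45d42000000000000b40000000000c23000000000cc5b50bd1cd0000000000000dac000000000cb4000000000c3cd87cfbbed000b5ecb3d6b000cebc5cce4000d9cd35bbf000000000000cdac0cd3acaf000d81c05d66000c7ed1bb95000000000000c9fc2bbe4d1d000c17c98d4c000d10d01c08000000000000c2ec93d85cf2000d9eb97c5f000cabca4c07000000000000c94000000000c87000000000bf700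0000000bf0c66bdebc7000d03d28cf4000d70b45c6f000cadcb6ba7000000000000cf3ca1c13cae000c3fb91b58000c84b74b83000000000000ca0d21b9eb67000b63b39b0f000b7cb0ab82000000000000d22000000000bfb000000000c62000000000da1bd2c11db4000bc5da3b9b000d78cd6b75000bb6b59c4e000000000000b65d8fd83c92000d60b44c4c000c7cc8bb43000000000000d04d2dc15c9d000c41b38b56000c83b72b81000000000000ca3000000000bf5000000000d8a000000000be1bcbd5fc2d000000000000c78000000000d0b000000000b25c24d1cb31000000000000c6d000000000bff000000000d93cb2bbbda7000000000000c49000000000d51000000000d45bfad89d6f000c9ed39ca2000d09b84d67000c6ed1eb92000000000000c95b85bfeb20000be5c8fc2a000b2bbe3b93000000000000da8ba8d31d25000d7bc70c99000d00ce0b4e000000000000d64c02d15b2a000d32d41b88000b1ebacb3d000000000000c0f000000000dad000000000c85000000000cdcd98c75c96000c0ed7fb61000d34d27b49000b78b36c03000000000000b3ed9ad5dc50000d14b6ec04000c31c4fb6c000000000000cbad75bc9cdf000bf2b23b34000ccbb47bbd000000000000c60000000000baf000000000daf000000000ba5b8bd80be7000b1bb3cb21000b4cbcecd5000b2cd24d63000000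000000c3bc1ed26b2d000d07d17b19000b22b12b2f000000000000becb8cc01bd5000beabf3b33000c29b46d99000000000000b0e000000000c39000000000b62000000000b10c3db79b17000000000000d91000000000b68000000000b73d5eba3b57000000000000d2f000000000d7e000000000c48cded61c22000000000000be6000000000d30000000000b18ba4d08b11000d9dcc3b55000cfada2b3a000b71b4ab6a000000000000b0b000000000d3d000000000c67000000000d44cfcc88cf1000000000000b66000000000bd3000000000cceb7bb90c8d000000000000d84000000000cfd000000000c19d3cd4fc3a000b96c6cda0000cb1c0dc9b000db3ce2c06000000000000c97000000000cc0000000000d37000000000b15c79d68b1c000000000000cac000000000c4b000000000d53c7fc00d8e000000000000bfc000000000d92000000000cf0bb3daad43000c59cf5c5e000cbfbc2d4b000c1dcf9bd7000000000000c52000000000d5b000000000ba1000000000baed0dbe0b8a000000000000ce3000000000dae000000000bf9c9cd97bd0000000000000c34000000000d79000000000b0dbe8d58b09000d90c7ab87000cb0d95b60000babb77b42000000000000b16cd3bf8d88000bcfcd2baa000da6beebc0000000000000b5fb70c20d1f000c72b7dcf8000d6eccccbb000000000000cbcd23c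26b51000c46d40cc4000b41c7db37000000000000b32000000000cc8000000000d13000000000b03c82d5ab02000000000000b07000000000c80000000000d3bb05c36d82000000000000bf4000000000d0f000000000bdcbcacc6c2f000000000000bb2000000000ca9000000000d94b8fc64d9f000b27befbb4000bc6db2c25000b99c6ad56000000000000b26000000000bcc000000000d48000000000d2abf6cf7d12000000000000d8c000000000cec000000000c14d46cb5c40000000000000d18000000000b3f000000000c27ccfb4dbd4000c53db0ca8000d8bbd9c1a000c63c6bbda000000000000c54000000000ca6000000000bdf000000000da5cefbfdd8d000000000000b24000000000c7b000000000d65b2ec28d1a000000000000d02000000000ce6000000000c16d47cc7c42000c2cbcdd3f000c1cc0bcaa000d86c74c0a000000000000c09b1fb69cc2000b7fd74c76000d0ac8aced000000000000b52b86d96bba000dabd20bb1000b7eb8ec8e000000000000b94c71d2bd16000d6cb4fc73000d3ecbdba9000000000000d05000000000b06000000000c81000000000d2cb04c37d76000000000000c16000000000d02000000000ce6c42d47cc7000000000000da5000000000ca6000000000bdfd8dcefbfd000000000000d65000000000b24000000000c7bd1ab2ec28000c0ad86c74000d3fc2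cbcd000caac1cc0b000000000000c09000000000d94000000000bb2000000000ca9d9fb8fc64000000000000d3b000000000b07000000000c80d82b05c36000000000000bdc000000000bf4000000000d0fc2fbcacc6000d56b99c6a000bb4b27bef000c25bc6db2000000000000b26000000000c27000000000d18000000000b3fbd4ccfb4d000000000000d2a000000000bcc000000000d48d12bf6cf7000000000000c14000000000d8c000000000cecc40d46cb5000bdac63c6b000ca8c53db0000c1ad8bbd9000000000000c54ba9d3ecbd000d16c71d2b000c73d6cb4f000000000000d05cedd0ac8a000cc2b1fb69000c76b7fd74000000000000b52c8eb7eb8e000bbab86d96000bb1dabd20000000000000b94000000000d2c000000000b06000000000c81d76b04c37000000000000cec000000000c14000000000d8ccb5c40d46000000000000b3f000000000c27000000000d18b4dbd4ccf000000000000d48000000000d2a000000000bcccf7d12bf6000bd9c1ad8b000c6bbdac63000db0ca8c53000000000000c54000000000c7b000000000d65000000000b24c28d1ab2e000000000000ce6000000000c16000000000d02cc7c42d47000000000000bdf000000000da5000000000ca6bfdd8dcef000c0bcaac1c000c74c0ad86000bcdd3fc2c000000000000c09000000000d0f000000000bdc000000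000bf4cc6c2fbca000000000000ca9000000000d94000000000bb2c64d9fb8f000000000000c80000000000d3b000000000b07c36d82b05000db2c25bc6000c6ad56b99000befbb4b27000000000000b26d20bb1dab000b8ec8eb7e000d96bbab86000000000000b94b4fc73d6c000cbdba9d3e000d2bd16c71000000000000d05d74c76b7f000c8acedd0a000b69cc2b1f000000000000b52000000000c81000000000d2c000000000b06c37d76b04000b13ba6d0c000bbcda9c33000d4ec4aca7000000000000b80bc4d59b9c000d7cd72b76000bb7b5ac4d000000000000b64c1fce1d62000d33b30cbe000d7dd06beb000000000000d57000000000b0c000000000c35000000000cddb08be9d2e000bebd7dd06000d62c1fce1000cbed33b30000000000000d57ca7d4ec4a000d0cb13ba6000c33bbcda9000000000000b80c4dbb7b5a000b9cbc4d59000b76d7cd72000000000000b64000000000cdd000000000b0c000000000c35d2eb08be9000d72b76d7c000b5ac4dbb7000d59b9cbc4000000000000b64b30cbed33000d06bebd7d000ce1d62c1f000000000000d57da9c33bbc000c4aca7d4e000ba6d0cb13000000000000b80000000000c35000000000cdd000000000b0cbe9d2eb08000000000000b1d000000000c77000000000b3bb29c86b4b000000000000b3b000000000b1d000000000c77b4bb29c86000000000000c77000000000b3b000000000b1dc86b4bb29000b01cc9d0e000d0eb01cc9000cc9d0eb01000000000000000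

/-- vectors with six coordinates -/
structure V6 where
  x0 : F4
  x1 : F4
  x2 : F4
  x3 : F4
  x4 : F4
  x5 : F4

/-- code of a field element -/
noncomputable def cF (x : F4) : ℕ := F4.rec (nat_lit 0) (nat_lit 1) (nat_lit 2) (nat_lit 3) x

/-- decode a field element -/
noncomputable def dF (k : ℕ) : F4 :=
  Nat.rec z (fun k _ => Nat.rec o (fun k _ => Nat.rec w (fun _ _ => v) k) k) k

/-- kernel-friendly addition -/
noncomputable def ad (x y : F4) : F4 :=
  F4.rec y (F4.rec o z v w y) (F4.rec w v z o y) (F4.rec v w o z y) x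

/-- kernel-friendly multiplication -/
noncomputable def mu (x y : F4) : F4 :=
  F4.rec z y (F4.rec z w v o y) (F4.rec z v o w y) x

/-- kernel-friendly square -/
noncomputable def sq (x : F4) : F4 := F4.rec z o v w x

/-- code of a vector -/
noncomputable def enc (u : V6) : ℕ :=
  V6.rec (fun a b c d e f => Nat.add (cF a) (Nat.mul (nat_lit 4) (Nat.add (cF b) (Nat.mul (nat_lit 4)
    (Nat.add (cF c) (Nat.mul (nat_lit 4) (Nat.add (cF d) (Nat.mul (nat_lit 4) (Nat.add (cF e)
    (Nat.mul (nat_lit 4) (cF f))))))))))) u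

/-- decode a vector -/
noncomputable def dec (m : ℕ) : V6 :=
  V6.mk (dF (Nat.land m (nat_lit 3))) (dF (Nat.land (Nat.shiftRight m (nat_lit 2)) (nat_lit 3)))
    (dF (Nat.land (Nat.shiftRight m (nat_lit 4)) (nat_lit 3)))
    (dF (Nat.land (Nat.shiftRight m (nat_lit 6)) (nat_lit 3)))
    (dF (Nat.land (Nat.shiftRight m (nat_lit 8)) (nat_lit 3)))
    (dF (Nat.land (Nat.shiftRight m (nat_lit 10)) (nat_lit 3)))

/-- Hermitian form -/
noncomputable def herm (u w : V6) : F4 :=
  V6.rec (fun a b c d e f => V6.rec (fun a' b' c' d' e' f' =>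
    ad (ad (ad (ad (ad (mu a (sq a')) (mu b (sq b'))) (mu c (sq c'))) (mu d (sq d')))
      (mu e (sq e'))) (mu f (sq f'))) w) u

/-- scalar multiple -/
noncomputable def smul (k : F4) (u : V6) : V6 :=
  V6.rec (fun a b c d e f => V6.mk (mu k a) (mu k b) (mu k c) (mu k d) (mu k e) (mu k f)) u

/-- `u + k w` -/
noncomputable def addmul (u : V6) (k : F4) (w : V6) : V6 :=
  V6.rec (fun a b c d e f => V6.rec (fun a' b' c' d' e' f' =>
    V6.mk (ad a (mu k a')) (ad b (mu k b')) (ad c (mu k c')) (ad d (mu k d')) (ad e (mu k e'))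
      (ad f (mu k f'))) w) u

/-- the vector of a point -/
noncomputable def vx (x : ℕ) : V6 :=
  dec (Nat.land (Nat.shiftRight VT (Nat.mul (nat_lit 12) (Nat.sub x (nat_lit 2817)))) (nat_lit 4095))

/-- the label of a vector -/
noncomputable def lab (u : V6) : ℕ :=
  Nat.land (Nat.shiftRight LT (Nat.mul (nat_lit 12) (enc u))) (nat_lit 4095)

/-- all field elements -/
noncomputable def allF (p : F4 → Bool) : Bool := band (p z) (band (p o) (band (p w) (p v)))

/-- test for zero -/
noncomputable def isZ (x : F4) : Bool := F4.rec true false false false x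

/-- check of one point -/
noncomputable def ptCheck (i : ℕ) : Bool :=
  (fun x => band (isZ (herm (vx x) (vx x))) (band (Nat.ble 1 (enc (vx x)))
    (band (Nat.beq (lab (vx x)) x) (band (Nat.beq (lab (smul w (vx x))) x)
      (Nat.beq (lab (smul v (vx x))) x))))) (Nat.add (nat_lit 2817) i)

/-- check of one vector -/
noncomputable def vecCheck (u : V6) : Bool :=
  bite (isZ (herm u u)) (bite (Nat.beq (enc u) (nat_lit 0)) true
    (band (Nat.ble (nat_lit 2817) (lab u)) (band (Nat.ble (Nat.succ (lab u)) (nat_lit 3510))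
      (bite (Nat.beq (enc u) (enc (vx (lab u)))) true
        (bite (Nat.beq (enc u) (enc (smul w (vx (lab u))))) true
          (Nat.beq (enc u) (enc (smul v (vx (lab u)))))))))) true

/-- check of the action of one transvection -/
noncomputable def actCheck (s : Data22.Gen) (c : ℕ) (i : ℕ) : Bool :=
  (fun x => Nat.beq (lab (addmul (vx x) (herm (vx x) (vx c)) (vx c))) (Data22.nx s x))
    (Nat.add (nat_lit 2817) i)

/-- the generator `a` fixes the points -/
noncomputable def aCheck (i : ℕ) : Bool :=
  (fun x => Nat.beq (Data22.nx .a x) x) (Nat.add (nat_lit 2817) i)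

theorem pt_ok : allGrid (nat_lit 21) (nat_lit 33) ptCheck = true := by
  decide +kernel

theorem vec_ok : allF (fun a => allF (fun b => allF (fun c => allF (fun d => allF (fun e =>
    allF (fun f => vecCheck (V6.mk a b c d e f))))))) = true := by
  decide +kernel

theorem a_ok : allGrid (nat_lit 21) (nat_lit 33) aCheck = true := by
  decide +kernel

theorem act_c : allGrid (nat_lit 21) (nat_lit 33) (actCheck .c (nat_lit 2817)) = true := by
  decide +kernel

theorem act_d : allGrid (nat_lit 21) (nat_lit 33) (actCheck .d (nat_lit 2819)) = true := by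
  decide +kernel

theorem act_e : allGrid (nat_lit 21) (nat_lit 33) (actCheck .e (nat_lit 2827)) = true := by
  decide +kernel

theorem act_f : allGrid (nat_lit 21) (nat_lit 33) (actCheck .f (nat_lit 2854)) = true := by
  decide +kernel

theorem act_g : allGrid (nat_lit 21) (nat_lit 33) (actCheck .g (nat_lit 2922)) = true := by
  decide +kernel

theorem act_h : allGrid (nat_lit 21) (nat_lit 33) (actCheck .h (nat_lit 2830)) = true := by
  decide +kernel

theorem act_i : allGrid (nat_lit 21) (nat_lit 33) (actCheck .i (nat_lit 2863)) = true := by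
  decide +kernel

theorem act_l : allGrid (nat_lit 21) (nat_lit 33) (actCheck .l (nat_lit 2924)) = true := by
  decide +kernel

end Cfsg.Agent.Fischer.Vec22
end

-- part: Fischer/UnitAct
section
/-!
# The action of `SU n F 2` on isotropic points, indexed by a type `L`
-/

set_option autoImplicit false
set_option linter.unusedSectionVars false

namespace Cfsg.Agent.Fischer.UnitAct

open Cfsg Cfsg.Agent.LieClassical.HermBasic Cfsg.Agent.ClassicalGeometry.UnitTransv
  Cfsg.Agent.SporadicStructure.UnitTwo

variable {F : Type*} [Field F] [Fintype F] {n : ℕ}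

/-- An indexing of the isotropic points. -/
structure Points (F : Type*) [Field F] (n : ℕ) (L : Type*) where
  vec : L → (Fin n → F)
  iso : ∀ y, hermForm n F 2 (vec y) (vec y) = 0
  ne : ∀ y, vec y ≠ 0
  cover : ∀ u : Fin n → F, u ≠ 0 → hermForm n F 2 u u = 0 → ∃ y, ∃ c : F, u = c • vec y
  uniq : ∀ y y' : L, ∀ c : F, vec y = c • vec y' → y = y'

variable {L : Type*} (P : Points F n L)

theorem exists_image (A : SU n F 2) (y : L) : ∃ z, ∃ c : F, act A (P.vec y) = c • P.vec z := by
  apply P.cover
  · intro h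
    apply P.ne y
    rw [← act_inv_act A (P.vec y), h, act_zero]
  · rw [herm_act, P.iso]

/-- image of a point -/
noncomputable def img (A : SU n F 2) (y : L) : L := (exists_image P A y).choose

theorem img_spec (A : SU n F 2) (y : L) : ∃ c : F, act A (P.vec y) = c • P.vec (img P A y) :=
  (exists_image P A y).choose_spec

theorem img_eq {A : SU n F 2} {y z : L} {c : F} (h : act A (P.vec y) = c • P.vec z) :
    img P A y = z := by
  obtain ⟨d, hd⟩ := img_spec P A y
  have hd0 : d ≠ 0 := by
    rintro rfl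
    rw [zero_smul] at hd
    apply P.ne y
    rw [← act_inv_act A (P.vec y), hd, act_zero]
  apply P.uniq _ _ (d⁻¹ * c)
  rw [mul_smul, ← h, hd, smul_smul, inv_mul_cancel₀ hd0, one_smul]

/-- the action on the index set -/
@[reducible] noncomputable def action : MulAction (SU n F 2) L where
  smul A y := img P A y
  one_smul y := by
    show img P 1 y = y
    apply img_eq P (c := 1)
    rw [act_one, one_smul]
  mul_smul A B y := by
    show img P (A * B) y = img P A (img P B y)
    obtain ⟨c, hc⟩ := img_spec P B y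
    obtain ⟨d, hd⟩ := img_spec P A (img P B y)
    apply img_eq P (c := c * d)
    rw [act_mul, hc, act_smul, hd, smul_smul]

/-- the permutation representation -/
noncomputable def rep : SU n F 2 →* Equiv.Perm L :=
  @MulAction.toPermHom (SU n F 2) L _ (action P)

theorem rep_apply (A : SU n F 2) (y : L) : rep P A y = img P A y := rfl

theorem rep_eq {A : SU n F 2} {y z : L} {c : F} (h : act A (P.vec y) = c • P.vec z) :
    rep P A y = z := img_eq P h

theorem rep_spec (A : SU n F 2) (y : L) : ∃ c : F, act A (P.vec y) = c • P.vec (rep P A y) :=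
  img_spec P A y

theorem scalar_ne_zero {A : SU n F 2} {y z : L} {c : F} (h : act A (P.vec y) = c • P.vec z) :
    c ≠ 0 := by
  rintro rfl
  rw [zero_smul] at h
  apply P.ne y
  rw [← act_inv_act A (P.vec y), h, act_zero]

/-- the kernel is the centre -/
theorem ker_rep (hF : Fintype.card F = 2 ^ 2) (hn : 4 ≤ n) :
    (rep P).ker = Subgroup.center (SU n F 2) := by
  ext A
  rw [MonoidHom.mem_ker]
  constructor
  · intro h
    rw [Subgroup.mem_center_iff]
    intro B
    have hB : B ∈ R (n := n) hF := by rw [R_eq_top hF hn]; trivial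
    have hle : R (n := n) hF ≤ Subgroup.centralizer {A} := by
      unfold R
      rw [Subgroup.closure_le]
      rintro _ ⟨v, hv, hv0, rfl⟩
      rw [SetLike.mem_coe, Subgroup.mem_centralizer_singleton_iff]
      obtain ⟨y, c, hc⟩ := P.cover v hv0 hv
      obtain ⟨d, hd⟩ := rep_spec P A y
      have hy : rep P A y = y := by rw [h]; rfl
      rw [hy] at hd
      have hd0 : d ≠ 0 := scalar_ne_zero P hd
      have hAv : act A v = d • v := by rw [hc, act_smul, hd, smul_comm]
      have hgv : hermForm n F 2 (act A v) (act A v) = 0 := by rw [herm_act, hv]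
      have h1 := conj_T hF A v hv hgv
      have h2 : T hF (act A v) hgv = T hF v hv := by
        have hdv : hermForm n F 2 (d • v) (d • v) = 0 := by rw [← hAv]; exact hgv
        rw [← T_smul hF d hd0 v hv hdv]
        congr 1
      rw [h2] at h1
      exact (mul_inv_eq_iff_eq_mul.1 h1).symm
    exact Subgroup.mem_centralizer_singleton_iff.1 (hle hB)
  · intro h
    ext y
    show rep P A y = y
    obtain ⟨d, hd⟩ := rep_spec P A y
    -- A commutes with the transvection of `vec y`
    have hgv : hermForm n F 2 (act A (P.vec y)) (act A (P.vec y)) = 0 := by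
      rw [herm_act, P.iso]
    have h1 := conj_T hF A (P.vec y) (P.iso y) hgv
    have h2 : A * T hF (P.vec y) (P.iso y) * A⁻¹ = T hF (P.vec y) (P.iso y) := by
      rw [← (Subgroup.mem_center_iff.1 h) (T hF (P.vec y) (P.iso y))]
      group
    rw [h2] at h1
    -- the transvection determines the line
    obtain ⟨x, hx⟩ : ∃ x, hermForm n F 2 x (P.vec y) ≠ 0 := by
      by_contra hc
      push Not at hc
      apply P.ne y
      apply herm_nondeg (q := 2) hF
      intro v
      rw [herm_swap hF, hc v]
      simp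
    have h3 := congrArg (fun B => act B x) h1
    simp only [act_T] at h3
    have h4 : hermForm n F 2 x (P.vec y) • P.vec y =
        hermForm n F 2 x (act A (P.vec y)) • act A (P.vec y) := add_left_cancel h3
    apply (P.uniq y _ ((hermForm n F 2 x (P.vec y))⁻¹ * (hermForm n F 2 x (act A (P.vec y)) * d)) _).symm
    rw [mul_smul, mul_smul, ← hd, ← h4, smul_smul, inv_mul_cancel₀ hx, one_smul]

/-- the representation of `PSU` -/
noncomputable def prep (hF : Fintype.card F = 2 ^ 2) (hn : 4 ≤ n) : PSU n F 2 →* Equiv.Perm L :=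
  QuotientGroup.lift (Subgroup.center (SU n F 2)) (rep P) (fun A hA => by
    have : A ∈ (rep P).ker := by rw [ker_rep P hF hn]; exact hA
    exact this)

theorem prep_injective (hF : Fintype.card F = 2 ^ 2) (hn : 4 ≤ n) :
    Function.Injective (prep P hF hn) := by
  rw [injective_iff_map_eq_one]
  intro x
  induction x using QuotientGroup.induction_on with
  | H A =>
    intro h
    rw [QuotientGroup.eq_one_iff, ← ker_rep P hF hn]
    exact h

theorem prep_range (hF : Fintype.card F = 2 ^ 2) (hn : 4 ≤ n) :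
    (prep P hF hn).range = (rep P).range := by
  ext σ
  constructor
  · rintro ⟨x, rfl⟩
    induction x using QuotientGroup.induction_on with
    | H A => exact ⟨A, rfl⟩
  · rintro ⟨A, rfl⟩
    exact ⟨QuotientGroup.mk A, rfl⟩

/-- Matching of an abstract group acting on `L` with `SU n F 2`. -/
theorem range_eq (hF : Fintype.card F = 2 ^ 2) (hn : 4 ≤ n) {C : Type*} [Group C]
    (α : C →* Equiv.Perm L) (S : Set C) (hS : Subgroup.closure S = ⊤)
    (hmatch : ∀ s ∈ S, ∃ A : SU n F 2, α s = rep P A)
    (τ : L → C) (hτ : ∀ (k : C) (y : L), τ (α k y) = k * τ y * k⁻¹)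
    (l0 : L) (htrans : ∀ y, ∃ k : C, α k l0 = y)
    (h0 : α (τ l0) = rep P (T hF (P.vec l0) (P.iso l0))) :
    α.range = (rep P).range := by
  have hle : α.range ≤ (rep P).range := by
    rw [MonoidHom.range_eq_map, ← hS, MonoidHom.map_closure, Subgroup.closure_le]
    rintro _ ⟨s, hs, rfl⟩
    obtain ⟨A, hA⟩ := hmatch s hs
    exact ⟨A, hA.symm⟩
  apply le_antisymm hle
  rw [MonoidHom.range_eq_map, ← R_eq_top hF hn, R, MonoidHom.map_closure, Subgroup.closure_le]
  rintro _ ⟨_, ⟨v, hv, hv0, rfl⟩, rfl⟩
  obtain ⟨y, c, hc⟩ := P.cover v hv0 hv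
  have hc0 : c ≠ 0 := by
    rintro rfl
    rw [zero_smul] at hc
    exact hv0 hc
  have e1 : T hF v hv = T hF (P.vec y) (P.iso y) := by
    have hcv : hermForm n F 2 (c • P.vec y) (c • P.vec y) = 0 := by rw [← hc]; exact hv
    rw [← T_smul hF c hc0 (P.vec y) (P.iso y) hcv]
    congr 1
  rw [e1]
  obtain ⟨k, rfl⟩ := htrans y
  obtain ⟨A, hA⟩ := hle ⟨k, rfl⟩
  refine ⟨τ (α k l0), ?_⟩
  rw [hτ, map_mul, map_mul, map_inv, h0, ← hA, ← map_mul, ← map_inv, ← map_mul]
  obtain ⟨d, hd⟩ := rep_spec P A l0
  have hd0 : d ≠ 0 := scalar_ne_zero P hd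
  have hgv : hermForm n F 2 (act A (P.vec l0)) (act A (P.vec l0)) = 0 := by rw [herm_act, P.iso]
  rw [conj_T hF A (P.vec l0) (P.iso l0) hgv]
  congr 1
  have hdv : hermForm n F 2 (d • P.vec (rep P A l0)) (d • P.vec (rep P A l0)) = 0 := by
    rw [← hd]; exact hgv
  rw [← T_smul hF d hd0 (P.vec (rep P A l0)) (P.iso _) hdv]
  congr 1

end Cfsg.Agent.Fischer.UnitAct
end

-- part: Fischer/Even22
section
/-!
# Fi22: the base transposition is a product of six transpositions commuting with it; simplicity
-/

set_option autoImplicit false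

namespace Cfsg.Agent.Fischer.Even22

open Cfsg Cfsg.Agent.Fischer.Cert Cfsg.Agent.Fischer.Data22 Cfsg.Agent.Fischer.Check22
  Cfsg.Agent.Fischer.Abstract Cfsg.Agent.Fischer.Group22 Cfsg.Agent.Fischer.Rank22

open Gen in
/-- a relator -/
def rel5 : List Gen := [a, b, a, c, b, d, c, e, d, h, d, e, c, d, b, c, a, b, c, d, c, e, d, h,
  d, e, c, d, e, h, l]

theorem rel5_ok : relCheck nx (nat_lit 54) (nat_lit 65) rel5 = true := by
  decide +kernel

theorem isRel5 : IsRel g rel5 := by
  have h := isRel_perm_of_check rel5_ok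
  rw [isRel_def] at h ⊢
  apply Subtype.ext
  rw [← Subgroup.coe_subtype, map_list_prod, List.map_map]
  exact h

open Gen in
/-- check of the two auxiliary points -/
noncomputable def auxCheck : Bool :=
  band (Nat.beq (nx d (nx c (nx e (nx d 2830)))) 2835)
    (band (Nat.beq (nx b (nx a (nx c (nx b 2835)))) 2963)
      (band (Nat.beq (nx a 2835) 2835) (Nat.beq (nx a 2963) 2963)))

theorem aux : auxCheck = true := by
  decide +kernel

theorem aux_spec : nx .d (nx .c (nx .e (nx .d 2830))) = 2835 ∧
    nx .b (nx .a (nx .c (nx .b 2835))) = 2963 ∧ nx .a 2835 = 2835 ∧ nx .a 2963 = 2963 := by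
  have h := aux
  unfold auxCheck at h
  simp only [band_eq] at h
  obtain ⟨h1, h2, h3, h4⟩ := h
  exact ⟨Nat.eq_of_beq_eq_true h1, Nat.eq_of_beq_eq_true h2, Nat.eq_of_beq_eq_true h3,
    Nat.eq_of_beq_eq_true h4⟩

/-- first auxiliary point -/
def p1 : X := pt 2835 (by decide)
/-- second auxiliary point -/
def p2 : X := pt 2963 (by decide)

theorem p1_eq : p1 = (g .d * g .c * g .e * g .d) • pg .h := by
  apply Fin.ext
  rw [mul_smul, mul_smul, mul_smul, g_smul, g_smul, g_smul, g_smul]
  exact aux_spec.1.symm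

theorem p2_eq : p2 = (g .b * g .a * g .c * g .b) • p1 := by
  apply Fin.ext
  rw [mul_smul, mul_smul, mul_smul, g_smul, g_smul, g_smul, g_smul]
  exact aux_spec.2.1.symm

theorem t_p1 : t p1 = g .d * g .c * g .e * g .d * g .h * g .d * g .e * g .c * g .d := by
  rw [p1_eq, t_smul, t_pg]
  simp only [mul_inv_rev, g_inv, mul_assoc]

theorem t_p2 : t p2 = g .b * g .a * g .c * g .b * (g .d * g .c * g .e * g .d * g .h * g .d * g .e *
    g .c * g .d) * g .b * g .c * g .a * g .b := by
  rw [p2_eq, t_smul, t_p1]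
  simp only [mul_inv_rev, g_inv, mul_assoc]

/-- the six points -/
def six : List X := [p2, pg .c, p1, pg .e, pg .h, pg .l]

theorem prod_six : R.t R.x0 = (six.map R.t).prod := by
  have h := isRel5
  rw [isRel_def] at h
  unfold rel5 at h
  simp only [List.map_cons, List.map_nil, List.prod_cons, List.prod_nil, mul_one] at h
  have h2 := eq_inv_of_mul_eq_one_right h
  rw [g_inv] at h2
  rw [R_x0, R_t, t_x0]
  show g .a = ([t p2, t (pg .c), t p1, t (pg .e), t (pg .h), t (pg .l)]).prod
  simp only [List.prod_cons, List.prod_nil, mul_one, t_p1, t_p2, t_pg, mul_assoc]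
  exact h2.symm

theorem even_six : Even six.length := ⟨3, rfl⟩

theorem com_six : ∀ x ∈ six, R.Com R.x0 x ∧ x ≠ R.x0 := by
  have hne : ∀ x : X, x.1 ≠ 0 → x ≠ R.x0 := by
    intro x hx h
    rw [R_x0] at h
    apply hx
    rw [h, x0_val]
  have hcom : ∀ x : X, nx .a x = x → R.Com R.x0 x := by
    intro x hx
    rw [← R.t_smul_eq_iff, R_t, R_x0, t_x0]
    exact Fin.ext hx
  intro x hx
  unfold six at hx
  simp only [List.mem_cons, List.not_mem_nil, or_false] at hx
  rcases hx with rfl | rfl | rfl | rfl | rfl | rfl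
  · exact ⟨hcom _ aux_spec.2.2.2, hne _ (by decide)⟩
  · exact ⟨com_x0_pg rfl, hne _ (by decide)⟩
  · exact ⟨hcom _ aux_spec.2.2.1, hne _ (by decide)⟩
  · exact ⟨com_x0_pg rfl, hne _ (by decide)⟩
  · exact ⟨com_x0_pg rfl, hne _ (by decide)⟩
  · exact ⟨com_x0_pg rfl, hne _ (by decide)⟩

instance faithful : FaithfulSMul G X := ⟨by
  intro g1 g2 h
  apply Subtype.ext
  ext x
  exact congrArg Fin.val (h x)⟩

theorem isSimpleGroup : IsSimpleGroup G :=
  Simple.isSimpleGroup R R_z1 R_z2 six even_six prod_six

theorem isThreeTranspositionClass : IsThreeTranspositionClass (Set.range R.t) :=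
  R.isThreeTranspositionClass

theorem card_D : Nat.card (Set.range R.t) = 3510 := by
  rw [R.card_range]
  simp

theorem card_G : Nat.card G = 3510 * Nat.card (Centralizer.C R) := by
  rw [Centralizer.card_eq R]
  simp

end Cfsg.Agent.Fischer.Even22
end

-- part: Fischer/Unit22
section
/-!
# Fi22: the centraliser of a transposition is a non-split double cover of `PSU(6, 2)`
-/

set_option autoImplicit false

namespace Cfsg.Agent.Fischer.Unit22

open Cfsg Cfsg.Agent.Fischer.Cert Cfsg.Agent.Fischer.Abstract Cfsg.Agent.Fischer.Centralizer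
  Cfsg.Agent.Fischer.Group22 Cfsg.Agent.Fischer.Rank22 Cfsg.Agent.Fischer.Vec22
  Cfsg.Agent.SporRec.GF4 Cfsg.Agent.ClassicalGeometry.UnitTransv
  Cfsg.Agent.SporadicStructure.UnitTwo

/-! ### arithmetic -/

theorem ad_eq (x y : F4) : ad x y = x + y := by cases x <;> cases y <;> rfl
theorem mu_eq (x y : F4) : mu x y = x * y := by cases x <;> cases y <;> rfl
theorem vsq_eq (x : F4) : Vec22.sq x = x ^ 2 := by rw [pow_two]; cases x <;> rfl
theorem isZ_iff (x : F4) : isZ x = true ↔ x = 0 := by
  cases x
  · exact ⟨fun _ => rfl, fun _ => rfl⟩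
  · exact ⟨fun h => absurd h (by decide), fun h => absurd h (by decide)⟩
  · exact ⟨fun h => absurd h (by decide), fun h => absurd h (by decide)⟩
  · exact ⟨fun h => absurd h (by decide), fun h => absurd h (by decide)⟩

/-- the vector as a function -/
def fn (u : V6) : Fin 6 → F4 := ![u.x0, u.x1, u.x2, u.x3, u.x4, u.x5]

/-- the function as a vector -/
def unfn (f : Fin 6 → F4) : V6 := ⟨f 0, f 1, f 2, f 3, f 4, f 5⟩

theorem fn_unfn (f : Fin 6 → F4) : fn (unfn f) = f := by
  funext i
  fin_cases i <;> rfl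

theorem unfn_fn (u : V6) : unfn (fn u) = u := rfl

theorem fn_injective : Function.Injective fn := fun u v h => by
  rw [← unfn_fn u, h, unfn_fn]

theorem herm_eq (u w : V6) : hermForm 6 F4 2 (fn u) (fn w) = herm u w := by
  cases u; cases w
  simp only [hermForm, Fin.sum_univ_six]
  show _ = ad (ad (ad (ad (ad (mu _ (Vec22.sq _)) (mu _ (Vec22.sq _))) (mu _ (Vec22.sq _)))
      (mu _ (Vec22.sq _))) (mu _ (Vec22.sq _))) (mu _ (Vec22.sq _))
  simp only [ad_eq, mu_eq, vsq_eq]
  rfl

theorem fn_smul (k : F4) (u : V6) : fn (smul k u) = k • fn u := by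
  cases u
  funext i
  rw [Pi.smul_apply, smul_eq_mul]
  fin_cases i <;> exact mu_eq _ _

theorem fn_addmul (u : V6) (k : F4) (w : V6) : fn (addmul u k w) = fn u + k • fn w := by
  cases u; cases w
  funext i
  rw [Pi.add_apply, Pi.smul_apply, smul_eq_mul]
  fin_cases i <;> exact (ad_eq _ _).trans (congrArg _ (mu_eq _ _))

theorem cF_lt (x : F4) : cF x < 4 := by cases x <;> decide

theorem cF_injective {x y : F4} (h : cF x = cF y) : x = y := by
  cases x <;> cases y <;> first | rfl | exact absurd h (by decide)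

theorem enc_mk (a b c d e f : F4) : enc ⟨a, b, c, d, e, f⟩ =
    cF a + 4 * (cF b + 4 * (cF c + 4 * (cF d + 4 * (cF e + 4 * cF f)))) := rfl

theorem enc_injective {u w : V6} (h : enc u = enc w) : u = w := by
  obtain ⟨a, b, c, d, e, f⟩ := u
  obtain ⟨a', b', c', d', e', f'⟩ := w
  rw [enc_mk, enc_mk] at h
  have h1 := cF_lt a; have h2 := cF_lt b; have h3 := cF_lt c
  have h4 := cF_lt d; have h5 := cF_lt e; have h6 := cF_lt f
  have h1' := cF_lt a'; have h2' := cF_lt b'; have h3' := cF_lt c'
  have h4' := cF_lt d'; have h5' := cF_lt e'; have h6' := cF_lt f'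
  have e1 : cF a = cF a' := by omega
  have e2 : cF b = cF b' := by omega
  have e3 : cF c = cF c' := by omega
  have e4 : cF d = cF d' := by omega
  have e5 : cF e = cF e' := by omega
  have e6 : cF f = cF f' := by omega
  rw [cF_injective e1, cF_injective e2, cF_injective e3, cF_injective e4, cF_injective e5,
    cF_injective e6]

theorem enc_zero {u : V6} (h : fn u = 0) : enc u = 0 := by
  have : u = ⟨.z, .z, .z, .z, .z, .z⟩ := by
    rw [← unfn_fn u, h]
    rfl
  rw [this]; rfl

theorem fn_zero_of_enc {u : V6} (h : enc u = 0) : fn u = 0 := by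
  have : u = ⟨.z, .z, .z, .z, .z, .z⟩ := enc_injective (h.trans rfl)
  rw [this]
  funext i
  fin_cases i <;> rfl

/-! ### the checks -/

theorem pt_spec {x : ℕ} (h1 : 2817 ≤ x) (h2 : x < 3510) :
    herm (vx x) (vx x) = 0 ∧ enc (vx x) ≠ 0 ∧ lab (vx x) = x ∧ lab (smul .w (vx x)) = x ∧
      lab (smul .v (vx x)) = x := by
  have h := allGrid_spec pt_ok (x - 2817) (lt_of_lt_of_le (show x - 2817 < 693 by omega) (by decide))
  have e : Nat.add 2817 (x - 2817) = x := by
    show 2817 + (x - 2817) = x
    omega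
  unfold ptCheck at h
  rw [e] at h
  simp only [band_eq, isZ_iff] at h
  obtain ⟨h3, h4, h5, h6, h7⟩ := h
  have h4' := Nat.le_of_ble_eq_true h4
  exact ⟨h3, by omega, Nat.eq_of_beq_eq_true h5, Nat.eq_of_beq_eq_true h6,
    Nat.eq_of_beq_eq_true h7⟩

theorem allF_spec {p : F4 → Bool} (h : allF p = true) (x : F4) : p x = true := by
  unfold allF at h
  simp only [band_eq] at h
  obtain ⟨h1, h2, h3, h4⟩ := h
  cases x
  · exact h1
  · exact h2
  · exact h3
  · exact h4

theorem vecCheck_all (u : V6) : vecCheck u = true := by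
  obtain ⟨a, b, c, d, e, f⟩ := u
  exact allF_spec (allF_spec (allF_spec (allF_spec (allF_spec (allF_spec vec_ok a) b) c) d) e) f

theorem bite_true_imp {c r : Bool} (h : bite c r true = true) (hc : c = true) : r = true := by
  rw [hc] at h; exact h

theorem bite_cases {c a b : Bool} (h : bite c a b = true) : (c = true ∧ a = true) ∨ b = true := by
  cases c
  · exact Or.inr h
  · exact Or.inl ⟨rfl, h⟩

theorem smul_eq_o (u : V6) : smul .o u = u := by cases u; rfl

theorem vec_spec {u : V6} (h0 : herm u u = 0) (hne : enc u ≠ 0) :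
    2817 ≤ lab u ∧ lab u < 3510 ∧ ∃ c : F4, u = smul c (vx (lab u)) := by
  have h := vecCheck_all u
  unfold vecCheck at h
  have h1 := bite_true_imp h ((isZ_iff _).2 h0)
  have h2 : Nat.beq (enc u) 0 = false := by
    rw [← Bool.not_eq_true]; exact fun hc => hne (Nat.eq_of_beq_eq_true hc)
  rw [h2] at h1
  have h3 := band_eq.1 h1
  have h4 := band_eq.1 h3.2
  refine ⟨Nat.le_of_ble_eq_true h3.1, Nat.le_of_ble_eq_true h4.1, ?_⟩
  rcases bite_cases h4.2 with ⟨h5, _⟩ | h5
  · exact ⟨.o, (enc_injective (Nat.eq_of_beq_eq_true h5)).trans (smul_eq_o _).symm⟩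
  · rcases bite_cases h5 with ⟨h6, _⟩ | h6
    · exact ⟨.w, enc_injective (Nat.eq_of_beq_eq_true h6)⟩
    · exact ⟨.v, enc_injective (Nat.eq_of_beq_eq_true h6)⟩

theorem act_spec_aux {s : Data22.Gen} {c x : ℕ}
    (h : allGrid 21 33 (actCheck s c) = true) (h1 : 2817 ≤ x) (h2 : x < 3510) :
    lab (addmul (vx x) (herm (vx x) (vx c)) (vx c)) = Data22.nx s x := by
  have h := allGrid_spec h (x - 2817) (show x - 2817 < 693 by omega)
  have e : Nat.add 2817 (x - 2817) = x := by
    show 2817 + (x - 2817) = x
    omega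
  unfold actCheck at h
  rw [e] at h
  exact Nat.eq_of_beq_eq_true h

theorem act_spec (s : Data22.Gen) (ha : s ≠ .a) (hb : s ≠ .b) {x : ℕ} (h1 : 2817 ≤ x)
    (h2 : x < 3510) :
    lab (addmul (vx x) (herm (vx x) (vx (pg s))) (vx (pg s))) = Data22.nx s x := by
  cases s
  · exact absurd rfl ha
  · exact absurd rfl hb
  · exact act_spec_aux act_c h1 h2
  · exact act_spec_aux act_d h1 h2
  · exact act_spec_aux act_e h1 h2
  · exact act_spec_aux act_f h1 h2
  · exact act_spec_aux act_g h1 h2
  · exact act_spec_aux act_h h1 h2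
  · exact act_spec_aux act_i h1 h2
  · exact act_spec_aux act_l h1 h2

theorem a_fix {x : ℕ} (h1 : 2817 ≤ x) (h2 : x < 3510) : Data22.nx .a x = x := by
  have h := allGrid_spec a_ok (x - 2817) (lt_of_lt_of_le (show x - 2817 < 693 by omega) (by decide))
  have e : Nat.add 2817 (x - 2817) = x := by
    show 2817 + (x - 2817) = x
    omega
  unfold aCheck at h
  rw [e] at h
  exact Nat.eq_of_beq_eq_true h

/-- the generator `a` moves the points `1, ..., 2816` -/
noncomputable def amCheck (i : ℕ) : Bool :=
  bite (Nat.beq (Data22.nx .a (Nat.succ i)) (Nat.succ i)) false true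

theorem am_ok : allGrid (nat_lit 44) (nat_lit 64) amCheck = true := by
  decide +kernel

theorem a_move {x : ℕ} (h1 : 1 ≤ x) (h2 : x ≤ 2816) : Data22.nx .a x ≠ x := by
  intro hx
  have h := allGrid_spec am_ok (x - 1) (lt_of_lt_of_le (show x - 1 < 2816 by omega) (by decide))
  have e : Nat.succ (x - 1) = x := by omega
  unfold amCheck at h
  rw [e, hx, Nat.beq_refl] at h
  exact absurd h (by decide)

/-! ### the link -/

theorem com_x0_iff_nx (y : X) : R.Com R.x0 y ↔ Data22.nx .a y = y := by
  have h := R.t_smul_eq_iff R.x0 y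
  rw [R_t, R_x0, t_x0] at h
  rw [R_x0, ← h]
  constructor
  · intro h; rw [← g_smul, h]
  · intro h; exact Fin.ext h

theorem link_ge (y : Link R) : 2817 ≤ (y.1 : X).1 := by
  obtain ⟨h1, h2⟩ := y.2
  rw [com_x0_iff_nx] at h1
  by_contra hc
  have h3 : (y.1 : X).1 ≠ 0 := by
    intro h
    apply h2
    exact Fin.ext (h.trans x0_val.symm)
  exact a_move (by omega) (by omega) h1

theorem link_lt (y : Link R) : (y.1 : X).1 < 3510 := (y.1 : X).2

/-- a member of the link from a number -/
def mkLink (x : ℕ) (h1 : 2817 ≤ x) (h2 : x < 3510) : Link R :=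
  ⟨pt x h2, (com_x0_iff_nx _).2 (a_fix h1 h2), fun h => by
    rw [R_x0] at h
    have := congrArg Fin.val h
    rw [pt_val, x0_val] at this
    omega⟩

theorem mkLink_val (x : ℕ) (h1 : 2817 ≤ x) (h2 : x < 3510) :
    ((mkLink x h1 h2).1 : X).1 = x := rfl

theorem link_ext {y z : Link R} (h : (y.1 : X).1 = (z.1 : X).1) : y = z :=
  Subtype.ext (Fin.ext h)

/-- the isotropic points -/
noncomputable def P : UnitAct.Points F4 6 (Link R) where
  vec y := fn (vx (y.1 : X).1)
  iso y := by rw [herm_eq]; exact (pt_spec (link_ge y) (link_lt y)).1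
  ne y := fun h => (pt_spec (link_ge y) (link_lt y)).2.1 (enc_zero h)
  cover u hu hh := by
    have h1 : herm (unfn u) (unfn u) = 0 := by rw [← herm_eq, fn_unfn]; exact hh
    have h2 : enc (unfn u) ≠ 0 := by
      intro h
      apply hu
      rw [← fn_unfn u]
      exact fn_zero_of_enc h
    obtain ⟨h3, h4, c, hc⟩ := vec_spec h1 h2
    refine ⟨mkLink (lab (unfn u)) h3 h4, c, ?_⟩
    rw [mkLink_val, ← fn_smul, ← hc, fn_unfn]
  uniq y y' c h := by
    obtain ⟨_, h2, h3, _, _⟩ := pt_spec (link_ge y) (link_lt y)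
    obtain ⟨_, _, h3', h4', h5'⟩ := pt_spec (link_ge y') (link_lt y')
    rw [← fn_smul] at h
    have h6 := fn_injective h
    apply link_ext
    cases c
    · exfalso
      apply h2
      rw [h6]
      apply enc_zero
      rw [fn_smul]
      exact zero_smul F4 _
    · rw [smul_eq_o] at h6
      rw [← h3, h6, h3']
    · rw [← h3, h6, h4']
    · rw [← h3, h6, h5']

theorem P_vec (y : Link R) : P.vec y = fn (vx (y.1 : X).1) := rfl

theorem hF : Fintype.card F4 = 2 ^ 2 := rfl

/-- a generator in the link -/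
noncomputable def lg (s : Data22.Gen) (hs : Data22.isH s = true) (ha : s ≠ .a) : Link R :=
  ⟨pg s, com_x0_pg hs, fun h => by
    rw [R_x0] at h
    have := congrArg Fin.val h
    cases s
    · exact ha rfl
    · exact absurd hs (by decide)
    all_goals exact absurd this (by decide)⟩

theorem lg_val (s : Data22.Gen) (hs : Data22.isH s = true) (ha : s ≠ .a) :
    (lg s hs ha).1 = pg s := rfl

/-- the generator `s` acts on the link as a transvection -/
theorem rep_T (s : Data22.Gen) (hs : Data22.isH s = true) (ha : s ≠ .a) (y z : Link R)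
    (hz : (z.1 : X).1 = Data22.nx s (y.1 : X).1) :
    UnitAct.rep P (T hF (P.vec (lg s hs ha)) (P.iso _)) y = z := by
  have hb : s ≠ .b := by rintro rfl; exact absurd hs (by decide)
  have e1 : act (T hF (P.vec (lg s hs ha)) (P.iso _)) (P.vec y) =
      fn (addmul (vx (y.1 : X).1) (herm (vx (y.1 : X).1) (vx (pg s : X).1)) (vx (pg s : X).1)) := by
    rw [act_T, fn_addmul, P_vec, P_vec, lg_val, herm_eq]
  have h1 := act_spec s ha hb (link_ge y) (link_lt y)
  rw [← hz] at h1
  set W := addmul (vx (y.1 : X).1) (herm (vx (y.1 : X).1) (vx (pg s : X).1)) (vx (pg s : X).1)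
  have h2 : herm W W = 0 := by
    rw [← herm_eq, ← e1, herm_act, P.iso]
  have h3 : enc W ≠ 0 := by
    intro h
    have h4 := fn_zero_of_enc h
    rw [← e1] at h4
    apply P.ne y
    rw [← act_inv_act (T hF (P.vec (lg s hs ha)) (P.iso _)) (P.vec y), h4, act_zero]
  obtain ⟨_, _, c, hc⟩ := vec_spec h2 h3
  apply UnitAct.rep_eq P (c := c)
  rw [e1, P_vec, ← fn_smul, ← h1]
  exact congrArg fn hc

/-- the action of the centraliser on the link -/
noncomputable def α : C R →* Equiv.Perm (Link R) := MulAction.toPermHom (C R) (Link R)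

theorem α_apply (k : C R) (y : Link R) : ((α k y).1 : X) = (k : G) • (y.1 : X) := rfl

/-- the transposition of a point of the link as an element of the centraliser -/
noncomputable def τ (y : Link R) : C R := ⟨R.t y.1, (t_mem_C_iff R y.1).2 y.2.1⟩

theorem τ_smul (k : C R) (y : Link R) : τ (α k y) = k * τ y * k⁻¹ := by
  apply Subtype.ext
  show R.t ((k : G) • (y.1 : X)) = (k : G) * R.t y.1 * (k : G)⁻¹
  rw [R.map_smul]

/-- the generators of the centraliser -/
noncomputable def gC (s : Data22.Gen) (hs : Data22.isH s = true) : C R :=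
  ⟨g s, by
    rw [mem_C_iff]
    exact fix_of_mem_H1 (g_mem_H1 hs)⟩

theorem C_eq_H1 : C R = H1 := by
  rw [H1_eq]
  exact R.centralizer_eq_stabilizer R.x0

theorem closure_gC : Subgroup.closure {k : C R | ∃ s hs, k = gC s hs} = ⊤ := by
  rw [eq_top_iff]
  rintro ⟨k, hk⟩ -
  have hk' : k ∈ H1 := by rw [← C_eq_H1]; exact hk
  have key : ∀ (k : G) (hk' : k ∈ Subgroup.closure (g '' {s | Data22.isH s = true}))
      (hk : k ∈ C R), (⟨k, hk⟩ : C R) ∈ Subgroup.closure {k : C R | ∃ s hs, k = gC s hs} := by
    intro k hk'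
    induction hk' using Subgroup.closure_induction with
    | mem x hx =>
      obtain ⟨s, hs, rfl⟩ := hx
      intro hk
      exact Subgroup.subset_closure ⟨s, hs, rfl⟩
    | one => intro hk; exact Subgroup.one_mem _
    | mul x y hx hy ihx ihy =>
      intro hk
      have hx' : x ∈ C R := by rw [C_eq_H1]; exact hx
      have hy' : y ∈ C R := by rw [C_eq_H1]; exact hy
      exact Subgroup.mul_mem _ (ihx hx') (ihy hy')
    | inv x hx ihx =>
      intro hk
      have hx' : x ∈ C R := by rw [C_eq_H1]; exact hx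
      exact Subgroup.inv_mem _ (ihx hx')
  exact key k hk' hk

theorem α_gC (s : Data22.Gen) (hs : Data22.isH s = true) (ha : s ≠ .a) :
    α (gC s hs) = UnitAct.rep P (T hF (P.vec (lg s hs ha)) (P.iso _)) := by
  ext y
  exact (rep_T s hs ha y (α (gC s hs) y) rfl).symm

theorem α_a : α (gC .a rfl) = 1 := by
  ext y
  apply link_ext
  exact a_fix (link_ge y) (link_lt y)

theorem range_eq : α.range = (UnitAct.rep P).range := by
  apply UnitAct.range_eq P hF (by decide) α _ closure_gC _ τ τ_smul (lg .c rfl (by decide))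
  · intro y
    obtain ⟨k, hk, hk'⟩ := orbit_high (y.1 : X).1 (link_lt y) (link_ge y)
    have hkC : k ∈ C R := by rw [C_eq_H1]; exact hk
    refine ⟨⟨k, hkC⟩, ?_⟩
    apply Subtype.ext
    exact hk'
  · have e : τ (lg .c rfl (by decide)) = gC .c rfl := by
      apply Subtype.ext
      exact t_pg .c
    rw [e]
    exact α_gC .c rfl (by decide)
  · rintro _ ⟨s, hs, rfl⟩
    by_cases ha : s = .a
    · subst ha
      refine ⟨1, ?_⟩
      rw [map_one]
      exact α_a
    · exact ⟨_, α_gC s hs ha⟩

/-- The centraliser of a transposition is a non-split double cover of `PSU(6, 2)`. -/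
theorem isNonsplitDoubleCover_C : IsNonsplitDoubleCover (C R) (PSU 6 F4 2) := by
  have := Even22.faithful
  refine Centralizer.isNonsplitDoubleCover_C R R_sep R_genC Even22.six Even22.even_six
    Even22.prod_six Even22.com_six (UnitAct.prep P hF (by decide))
    (UnitAct.prep_injective P hF (by decide)) ?_
  rw [UnitAct.prep_range, ← range_eq]
  rfl

end Cfsg.Agent.Fischer.Unit22
end

-- part: Fischer/Order22
section
/-!
# Fi22: order and final form
-/

set_option autoImplicit false

namespace Cfsg.Agent.Fischer.Order22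

open Cfsg Cfsg.Agent.Fischer.Abstract Cfsg.Agent.Fischer.Centralizer
  Cfsg.Agent.Fischer.Group22 Cfsg.Agent.Fischer.Rank22 Cfsg.Agent.SporRec.GF4

theorem card_PSU : Nat.card (PSU 6 F4 2) = 9196830720 := by
  have h := Cfsg.Agent.S0280.result (F := F4) (q := 2) rfl 6 (by norm_num)
  have e1 : Nat.gcd 6 (2 + 1) = 3 := by decide
  have e2 : (2 : ℕ) ^ (6 * (6 - 1) / 2) * ∏ i ∈ Finset.range 6,
      (if Even i then 2 ^ (i + 1) + 1 else 2 ^ (i + 1) - 1) = 82771476480 := by
    simp only [Finset.prod_range_succ, Finset.prod_range_zero]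
    rw [if_pos (by decide), if_neg (by decide), if_pos (by decide), if_neg (by decide),
      if_pos (by decide), if_neg (by decide)]
    norm_num
  rw [e1, e2] at h
  omega

theorem card_C : Nat.card (C R) = 18393661440 := by
  rw [card_of_doubleCover Unit22.isNonsplitDoubleCover_C, card_PSU]

theorem card_G : Nat.card G = 64561751654400 := by
  rw [Even22.card_G, card_C]

theorem isFi22 : IsFi22 G := ⟨Even22.isSimpleGroup, card_G⟩

/-- Fi22 as a 3-transposition group. -/
theorem main : ∃ (G : Type) (_ : Group G) (_ : Finite G), IsFi22 G ∧ ∃ D : Set G,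
    IsThreeTranspositionClass D ∧ Nat.card D = 3510 ∧ ∀ d ∈ D, ∃ (F : Type) (_ : Field F)
      (_ : Fintype F), Fintype.card F = 4 ∧
      IsNonsplitDoubleCover (Subgroup.centralizer ({d} : Set G)) (PSU 6 F 2) := by
  refine ⟨G, inferInstance, inferInstance, isFi22, Set.range R.t, Even22.isThreeTranspositionClass,
    Even22.card_D, ?_⟩
  intro d hd
  exact ⟨F4, inferInstance, inferInstance, rfl,
    isNonsplitDoubleCover_all R Unit22.isNonsplitDoubleCover_C d hd⟩

end Cfsg.Agent.Fischer.Order22
end
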