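import Cfsg.Agent.Fischer.Bound322
import Cfsg.Agent.Fischer.Index14080
import Cfsg.Agent.Fischer.Fi23Final
set_option linter.all false

-- part: Fischer/Central
section
/-!
Without an `E₇` relation: in a group with elements `b, …, i` satisfying the Coxeter relations of `Y₂₃₂` and the
spider relation, `(bcdefgh)^9 = (cdefghi)^9` is central of order at most two.  Hence `|⟨b, …, i⟩| ≤ 2·4585351680`,
and `|⟨a, …, i⟩| ≤ 2·64561751654400` if also `(abcdefh)^9 = 1`.
-/

set_option autoImplicit false

namespace Cfsg.Agent.Fischer.Central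

open Cfsg.Agent.Fischer.Derived Cfsg.Agent.Fischer.Y322 Cfsg.Agent.Fischer.Bound322

variable {G : Type*} [Group G] {s : Fin 8 → G}

/-- The translation by three times a minuscule weight. -/
def T48 : List (Fin 8) :=
  [7, 6, 2, 3, 4, 1, 2, 3, 6, 2, 7, 6, 1, 0, 2, 1, 3, 2, 6, 7, 4, 3, 2, 6, 1, 2, 0, 1, 3, 4, 2, 3, 6, 2, 1, 0, 7,
    6, 2, 1, 3, 2, 4, 3, 6, 2, 1, 0]

/-- The reflection in the highest root of the `E₇` diagram `c, d, e, f, g, h, i`. -/
def s8 : List (Fin 8) :=
  [7, 6, 2, 1, 3, 2, 4, 3, 5, 4, 6, 2, 1, 3, 2, 6, 7, 6, 2, 3, 1, 2, 6, 4, 5, 3, 4, 2, 3, 1, 2, 6, 7]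

/-- A word conjugating the spider. -/
def w2 : List (Fin 8) := [1, 2, 6, 3, 1, 2, 1]

theorem chk_T : chk (rep 10 spider.reverse ++ w2 ++ rep 10 spider.reverse ++ w2.reverse) T48 = true := by
  decide +kernel
theorem chk_Ts : chk (T48 ++ s7 ++ T48.reverse) Central.s8 = true := by decide +kernel
theorem chk_z2 : chk (rep 9 [1, 2, 3, 4, 5, 6, 7]) (u6 ++ Central.s8) = true := by decide +kernel
theorem chk_sq : chk (rep 18 e7w) [] = true := by decide +kernel
theorem chk_c1 : ∀ k : Fin 8, k ≠ 7 → chk (rep 9 e7w ++ [k]) ([k] ++ rep 9 e7w) = true := by decide +kernel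
theorem chk_c2 : chk (rep 9 [1, 2, 3, 4, 5, 6, 7] ++ [7]) ([7] ++ rep 9 [1, 2, 3, 4, 5, 6, 7]) = true := by
  decide +kernel

/-- The translation by three times a minuscule weight is trivial. -/
theorem T48_eq (hs : M8.IsLiftable s) (hsp : ev s spider ^ 10 = 1) : ev s T48 = 1 := by
  have h := ev_eq_ev hs chk_T
  rw [ev_append, ev_append, ev_append, ev_rep, ev_reverse hs, ev_reverse hs, inv_pow, hsp, inv_one, one_mul,
    mul_one, mul_inv_cancel] at h
  exact h.symm

/-- The two `E₇` centres coincide. -/
theorem z_eq (hs : M8.IsLiftable s) (hsp : ev s spider ^ 10 = 1) :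
    ev s e7w ^ 9 = ev s [1, 2, 3, 4, 5, 6, 7] ^ 9 := by
  have h1 := ev_eq_ev hs chk_C2
  have h2 := ev_eq_ev hs chk_Ts
  have h3 := ev_eq_ev hs chk_z2
  rw [ev_append, ev_append, ev_reverse hs, T48_eq hs hsp, one_mul, inv_one, mul_one] at h2
  rw [ev_rep, ev_append] at h1 h3
  rw [h3, ← h2, ← h1]
  rfl

/-- The element `(bcdefgh)^9` commutes with all generators. -/
theorem central (hs : M8.IsLiftable s) (hsp : ev s spider ^ 10 = 1) (k : Fin 8) :
    ev s e7w ^ 9 * s k = s k * ev s e7w ^ 9 := by
  have e1 : ∀ k : Fin 8, ev s [k] = s k := fun k => by rw [ev_cons, ev_nil, mul_one]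
  by_cases hk : k = 7
  · subst hk
    have h := ev_eq_ev hs chk_c2
    rw [ev_append, ev_append, ev_rep, e1, ← z_eq hs hsp] at h
    exact h
  · have h := ev_eq_ev hs (chk_c1 k hk)
    rw [ev_append, ev_append, ev_rep, e1] at h
    exact h

theorem z_sq (hs : M8.IsLiftable s) : (ev s e7w ^ 9) ^ 2 = 1 := by
  have h := ev_eq_ev hs chk_sq
  rw [ev_rep, ev_nil] at h
  rw [← pow_mul]; exact h

section Bound

variable {K : Type*} [Group K] {x : Fin 8 → K}

/-- The bound when the elements generate. -/
theorem bound_top (hs : M8.IsLiftable x) (hsp : ev x spider ^ 10 = 1)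
    (htop : Subgroup.closure (Set.range x) = ⊤) : Finite K ∧ Nat.card K ≤ 2 * 4585351680 := by
  set z : K := ev x e7w ^ 9 with hz
  have hcen : z ∈ Subgroup.center K := by
    rw [Subgroup.mem_center_iff]
    intro g
    have hg : g ∈ Subgroup.closure (Set.range x) := htop ▸ Subgroup.mem_top g
    induction hg using Subgroup.closure_induction with
    | mem y hy => obtain ⟨k, rfl⟩ := hy; exact (central hs hsp k).symm
    | one => simp
    | mul a b _ _ ha hb => rw [mul_assoc, hb, ← mul_assoc, ha, mul_assoc]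
    | inv a _ ha =>
      calc a⁻¹ * z = a⁻¹ * (z * a) * a⁻¹ := by group
        _ = a⁻¹ * (a * z) * a⁻¹ := by rw [ha]
        _ = z * a⁻¹ := by group
  have hnorm : (Subgroup.zpowers z).Normal := by
    refine ⟨fun n hn g => ?_⟩
    have hn' : n ∈ Subgroup.center K := (Subgroup.zpowers_le.2 hcen) hn
    rw [Subgroup.mem_center_iff] at hn'
    rw [hn' g, mul_assoc, mul_inv_cancel, mul_one]
    exact hn
  let π := QuotientGroup.mk' (Subgroup.zpowers z)
  have hl : M8.IsLiftable (fun k => π (x k)) := by
    intro i j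
    show (π (x i) * π (x j)) ^ M8 i j = 1
    rw [← map_mul, ← map_pow, hs i j, map_one]
  have hsp' : ev (fun k => π (x k)) spider ^ 10 = 1 := by
    rw [← map_ev, ← map_pow, hsp, map_one]
  have he : ev (fun k => π (x k)) e7w ^ 9 = 1 := by
    rw [← map_ev, ← map_pow]
    exact (QuotientGroup.eq_one_iff _).2 (Subgroup.mem_zpowers z)
  have hb := card_closure_range_le hl hsp' he
  have htop' : Subgroup.closure (Set.range fun k => π (x k)) = ⊤ := by
    have h1 : Set.range (fun k => π (x k)) = π '' Set.range x := by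
      rw [← Set.range_comp]; rfl
    rw [h1, ← MonoidHom.map_closure, htop, ← MonoidHom.range_eq_map, MonoidHom.range_eq_top]
    exact QuotientGroup.mk'_surjective _
  rw [htop'] at hb
  have hfin : Finite (K ⧸ Subgroup.zpowers z) := Subgroup.topEquiv.toEquiv.finite_iff.1 hb.1
  have hcard : Nat.card (K ⧸ Subgroup.zpowers z) ≤ 4585351680 := by
    have := hb.2
    rwa [Nat.card_congr Subgroup.topEquiv.toEquiv] at this
  have hzz : z ^ 2 = 1 := z_sq hs
  have hzf : IsOfFinOrder z := isOfFinOrder_iff_pow_eq_one.2 ⟨2, by norm_num, hzz⟩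
  have hfz : Finite (Subgroup.zpowers z) := by
    have := hzf.finite_zpowers
    exact this
  have hcz : Nat.card (Subgroup.zpowers z) ≤ 2 := by
    rw [Nat.card_zpowers]
    exact Nat.le_of_dvd (by norm_num) (orderOf_dvd_of_pow_eq_one hzz)
  have hK : Finite K := Finite.of_equiv _ (Subgroup.groupEquivQuotientProdSubgroup (s := Subgroup.zpowers z)).symm
  refine ⟨hK, ?_⟩
  rw [Subgroup.card_eq_card_quotient_mul_card_subgroup (Subgroup.zpowers z), mul_comm]
  exact Nat.mul_le_mul hcz hcard

end Bound

/-- `|⟨b, …, i⟩| ≤ 2·4585351680` from the Coxeter and spider relations alone. -/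
theorem card_closure_range_le_two (hs : M8.IsLiftable s) (hsp : ev s spider ^ 10 = 1) :
    Finite (Subgroup.closure (Set.range s)) ∧ Nat.card (Subgroup.closure (Set.range s)) ≤ 2 * 4585351680 := by
  let x : Fin 8 → Subgroup.closure (Set.range s) := fun k => ⟨s k, Subgroup.subset_closure ⟨k, rfl⟩⟩
  have hxs : ∀ k, (x k : G) = s k := fun k => rfl
  have hl : M8.IsLiftable x := by
    intro i j
    apply Subtype.ext
    have := hs i j
    simpa using this
  have hsp' : ev x spider ^ 10 = 1 := by
    apply Subtype.ext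
    have h1 : ((ev x spider : Subgroup.closure (Set.range s)) : G) = ev s spider :=
      map_ev (Subgroup.closure (Set.range s)).subtype x spider
    rw [Subgroup.coe_pow, h1, hsp, Subgroup.coe_one]
  have htop : Subgroup.closure (Set.range x) = ⊤ := by
    have h1 : Subgroup.map (Subgroup.closure (Set.range s)).subtype (Subgroup.closure (Set.range x)) =
        Subgroup.map (Subgroup.closure (Set.range s)).subtype ⊤ := by
      rw [MonoidHom.map_closure, ← Set.range_comp, ← MonoidHom.range_eq_map, Subgroup.range_subtype]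
      rfl
    exact Subgroup.map_injective (Subgroup.subtype_injective _) h1
  exact bound_top hl hsp' htop

/-! ### `⟨a, …, i⟩` -/

open Cfsg.Agent.Fischer.Index14080 in
/-- `|⟨a, …, i⟩| ≤ 2·64561751654400` from the Coxeter, spider and one `E₇` relation. -/
theorem card_closure_a {y : Fin 9 → G} (h : Rels y) :
    Finite (Subgroup.closure (Set.range y)) ∧ Nat.card (Subgroup.closure (Set.range y)) ≤ 129123503308800 := by
  have hl : M8.IsLiftable (fun k : Fin 8 => y k.succ) := by
    intro i j
    have h1 := h.cox i.succ j.succ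
    have h2 : ∀ i j : Fin 8, lab9 i.succ j.succ = lab i j := by decide
    rw [h2] at h1
    exact h1
  have hb := card_closure_range_le_two hl h.spider
  have h3 : Level.Hl y LB = Subgroup.closure (Set.range fun k : Fin 8 => y k.succ) := by
    rw [Level.Hl]
    congr 1
    ext g
    constructor
    · rintro ⟨k, hk, rfl⟩
      have hk' : k ∈ LB := hk
      have hk0 : k ≠ 0 := by rintro rfl; exact absurd hk' (by decide)
      obtain ⟨j, rfl⟩ := Fin.exists_succ_eq.2 hk0
      exact ⟨j, rfl⟩
    · rintro ⟨k, rfl⟩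
      refine ⟨k.succ, ?_, rfl⟩
      show k.succ ∈ LB
      revert k; decide
  rw [← h3] at hb
  have h4 := Index14080.card_le h hb.1
  refine ⟨h4.1, h4.2.trans ?_⟩
  calc 14080 * Nat.card (Level.Hl y LB) ≤ 14080 * (2 * 4585351680) := Nat.mul_le_mul_left _ hb.2
    _ = 129123503308800 := by norm_num

end Cfsg.Agent.Fischer.Central
end

-- part: Fischer/Fi23H
section
/-!
The subgroup `H = ⟨a, …, i⟩` of the presented group `Fi23` is finite of order at most `2·|Fi22|`; hence `Fi23` is
`IsFi23` as soon as the index of `H` is at most 31671.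
-/

set_option autoImplicit false

namespace Cfsg.Agent.Fischer.Fi23H

open Cfsg.Agent.Fischer.Fi23Hom Cfsg.Agent.Fischer.Fi23Orb Cfsg.Agent.Fischer.Fi23Final
open Cfsg.Spor Cfsg.Spor.Fi23

/-- The generators `a, …, i` in the order of the file `Index14080`. -/
def node : Fin 9 → Gen := ![.a, .b, .c, .d, .e, .f, .g, .h, .i]

/-- The elements `a, …, i` of the presented group. -/
def y (k : Fin 9) : Fi23 := gen (node k)

theorem lab_eq : ∀ i j : Fin 9, Index14080.lab9 i j = coxLabel edges (node i) (node j) := by decide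

theorem rels : Index14080.Rels y := by
  refine ⟨?_, ?_, ?_⟩
  · intro i j
    rw [lab_eq]
    exact gen_rel _ _
  · have h : (Fi23.d * Fi23.c * Fi23.b * Fi23.d * Fi23.e * Fi23.f * Fi23.d * Fi23.h * Fi23.i) ^ 10 ∈
        coxRelators edges ∪ {r | r ∈ extra} := by
      right
      show _ ∈ extra
      unfold extra
      simp
    have h1 := PresentedGroup.one_of_mem h
    simp only [map_pow, map_mul] at h1
    have h2 : Level.ev y Index14080.spider9 =
        gen .d * gen .c * gen .b * gen .d * gen .e * gen .f * gen .d * gen .h * gen .i := by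
      simp only [Level.ev, Index14080.spider9, List.map_cons, List.map_nil, List.prod_cons, List.prod_nil, mul_one,
        mul_assoc]
      rfl
    rw [h2]
    exact h1
  · have h : (Fi23.a * Fi23.b * Fi23.c * Fi23.d * Fi23.e * Fi23.f * Fi23.h) ^ 9 ∈
        coxRelators edges ∪ {r | r ∈ extra} := by
      right
      show _ ∈ extra
      unfold extra
      simp
    have h1 := PresentedGroup.one_of_mem h
    simp only [map_pow, map_mul] at h1
    have h2 : Level.ev y Index14080.e7a =
        gen .a * gen .b * gen .c * gen .d * gen .e * gen .f * gen .h := by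
      simp only [Level.ev, Index14080.e7a, List.map_cons, List.map_nil, List.prod_cons, List.prod_nil, mul_one,
        mul_assoc]
      rfl
    rw [h2]
    exact h1

theorem H_eq : H = Subgroup.closure (Set.range y) := by
  unfold H
  congr 1
  ext x
  constructor
  · rintro ⟨l, hl, rfl⟩
    unfold w1 at hl
    simp only [List.mem_cons, List.not_mem_nil, or_false] at hl
    rcases hl with rfl | rfl | rfl | rfl | rfl | rfl | rfl | rfl | rfl
    · exact ⟨6, by simp [word, y, node]⟩
    · exact ⟨5, by simp [word, y, node]⟩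
    · exact ⟨4, by simp [word, y, node]⟩
    · exact ⟨3, by simp [word, y, node]⟩
    · exact ⟨2, by simp [word, y, node]⟩
    · exact ⟨1, by simp [word, y, node]⟩
    · exact ⟨0, by simp [word, y, node]⟩
    · exact ⟨7, by simp [word, y, node]⟩
    · exact ⟨8, by simp [word, y, node]⟩
  · rintro ⟨k, rfl⟩
    refine ⟨[node k], ?_, by simp [word, y]⟩
    revert k
    decide

/-- The subgroup `⟨a, …, i⟩` is finite. -/
theorem H_finite : Finite H := by
  rw [H_eq]; exact (Central.card_closure_a rels).1

/-- The subgroup `⟨a, …, i⟩` has order at most `2·|Fi22|`. -/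
theorem card_H_le : Nat.card H ≤ 129123503308800 := by
  rw [H_eq]; exact (Central.card_closure_a rels).2

/-- `Fi23` is simple of the right order, given the index bound. -/
theorem isFi23_of_index (hub : H.index ≤ 31671) (hne : H.index ≠ 0) : Cfsg.IsFi23 Fi23 :=
  isFi23_of hub hne H_finite card_H_le

end Cfsg.Agent.Fischer.Fi23H
end
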