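import Cfsg.Agent.Fischer.TriCovK_m3
set_option linter.all false

-- part: Fischer/TriCovB
section
set_option linter.all false

/-! Kernel checks of the enumeration of the threefold cover: edges of the generator b. -/

set_option autoImplicit false
set_option maxRecDepth 100000
set_option Elab.async false

namespace Cfsg.Agent.Fischer.TriCovB

open Cfsg.Agent.Lib.PermNet Cfsg.Agent.SporRec.CosetBulk Cfsg.Agent.SporRec.CosetBulk2
  Cfsg.Agent.Fischer.TriTwo Cfsg.Agent.Fischer.TriSound Cfsg.Agent.Fischer.TriDef Cfsg.Agent.Fischer.TriLev
open Cfsg.Spor.Fi24 (Gen)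

theorem cov : coverD (D (snd .b)) (TriLev.cov .b) = true := by decide +kernel
theorem sym : mapApp (net .b) (lev .b) = lev .b := by decide +kernel
theorem dom : Nat.beq ((net .b).app (D (snd .b))) (D (snd .b)) = true := by decide +kernel
theorem fix : Nat.beq ((net .b).pt (root (snd .b))) (root (snd .b)) = true := by decide +kernel

end Cfsg.Agent.Fischer.TriCovB
end

-- part: Fischer/TriCovC
section
set_option linter.all false

/-! Kernel checks of the enumeration of the threefold cover: edges of the generator c. -/

set_option autoImplicit false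
set_option maxRecDepth 100000
set_option Elab.async false

namespace Cfsg.Agent.Fischer.TriCovC

open Cfsg.Agent.Lib.PermNet Cfsg.Agent.SporRec.CosetBulk Cfsg.Agent.SporRec.CosetBulk2
  Cfsg.Agent.Fischer.TriTwo Cfsg.Agent.Fischer.TriSound Cfsg.Agent.Fischer.TriDef Cfsg.Agent.Fischer.TriLev
open Cfsg.Spor.Fi24 (Gen)

theorem cov : coverD (D (snd .c)) (TriLev.cov .c) = true := by decide +kernel
theorem sym : mapApp (net .c) (lev .c) = lev .c := by decide +kernel
theorem dom : Nat.beq ((net .c).app (D (snd .c))) (D (snd .c)) = true := by decide +kernel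
theorem fix : Nat.beq ((net .c).pt (root (snd .c))) (root (snd .c)) = true := by decide +kernel

end Cfsg.Agent.Fischer.TriCovC
end
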