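import Cfsg.Agent.Fischer.TriCovK_m3
import Cfsg.Agent.Fischer.TriLevK_mg
set_option linter.all false

-- part: Fischer/TriCovG
section
set_option linter.all false

/-! Kernel checks of the enumeration of the threefold cover: edges of the generator g. -/

set_option autoImplicit false
set_option maxRecDepth 100000
set_option Elab.async false

namespace Cfsg.Agent.Fischer.TriCovG

open Cfsg.Agent.Lib.PermNet Cfsg.Agent.SporRec.CosetBulk Cfsg.Agent.SporRec.CosetBulk2
  Cfsg.Agent.Fischer.TriTwo Cfsg.Agent.Fischer.TriSound Cfsg.Agent.Fischer.TriDef Cfsg.Agent.Fischer.TriLev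
open Cfsg.Spor.Fi24 (Gen)

theorem cov : coverD (D (snd .g)) (TriLev.cov .g) = true := by decide +kernel
theorem sym : mapApp (net .g) (lev .g) = lev .g := by decide +kernel
theorem dom : Nat.beq ((net .g).app (D (snd .g))) (D (snd .g)) = true := by decide +kernel
theorem fix : Nat.beq ((net .g).pt (root (snd .g))) (root (snd .g)) = true := by decide +kernel

end Cfsg.Agent.Fischer.TriCovG
end

-- part: Fischer/TriChkD_mg
section
set_option linter.all false

-- part: Fischer/TriChkD
section
/-! Kernel checks: the mixed relations of the generator d. -/

set_option autoImplicit false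
set_option maxRecDepth 100000
set_option Elab.async false

namespace Cfsg.Agent.Fischer.TriChkD

open Cfsg.Agent.Fischer.Fi24RepLib Cfsg.Agent.Fischer.TriDef

theorem m0 : chkL 20 983040 0 (T.relsM .d) = true := by decide +kernel
theorem m1 : chkL 20 983040 1 (T.relsM .d) = true := by decide +kernel
theorem m2 : chkL 20 983040 2 (T.relsM .d) = true := by decide +kernel
theorem m3 : chkL 20 983040 3 (T.relsM .d) = true := by decide +kernel
theorem m4 : chkL 20 983040 4 (T.relsM .d) = true := by decide +kernel
theorem m5 : chkL 20 983040 5 (T.relsM .d) = true := by decide +kernel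
theorem m6 : chkL 20 983040 6 (T.relsM .d) = true := by decide +kernel
theorem m7 : chkL 20 983040 7 (T.relsM .d) = true := by decide +kernel
theorem m8 : chkL 20 983040 8 (T.relsM .d) = true := by decide +kernel
theorem m9 : chkL 20 983040 9 (T.relsM .d) = true := by decide +kernel
theorem m10 : chkL 20 983040 10 (T.relsM .d) = true := by decide +kernel
theorem m11 : chkL 20 983040 11 (T.relsM .d) = true := by decide +kernel
theorem m12 : chkL 20 983040 12 (T.relsM .d) = true := by decide +kernel
theorem m13 : chkL 20 983040 13 (T.relsM .d) = true := by decide +kernel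
theorem m14 : chkL 20 983040 14 (T.relsM .d) = true := by decide +kernel
theorem m15 : chkL 20 983040 15 (T.relsM .d) = true := by decide +kernel
theorem m16 : chkL 20 983040 16 (T.relsM .d) = true := by decide +kernel
theorem m17 : chkL 20 983040 17 (T.relsM .d) = true := by decide +kernel
theorem m18 : chkL 20 983040 18 (T.relsM .d) = true := by decide +kernel
theorem m19 : chkL 20 983040 19 (T.relsM .d) = true := by decide +kernel

end Cfsg.Agent.Fischer.TriChkD
end

-- part: Fischer/TriChkF
section
/-! Kernel checks: the mixed relations of the generator f. -/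

set_option autoImplicit false
set_option maxRecDepth 100000
set_option Elab.async false

namespace Cfsg.Agent.Fischer.TriChkF

open Cfsg.Agent.Fischer.Fi24RepLib Cfsg.Agent.Fischer.TriDef

theorem m0 : chkL 20 983040 0 (T.relsM .f) = true := by decide +kernel
theorem m1 : chkL 20 983040 1 (T.relsM .f) = true := by decide +kernel
theorem m2 : chkL 20 983040 2 (T.relsM .f) = true := by decide +kernel
theorem m3 : chkL 20 983040 3 (T.relsM .f) = true := by decide +kernel
theorem m4 : chkL 20 983040 4 (T.relsM .f) = true := by decide +kernel
theorem m5 : chkL 20 983040 5 (T.relsM .f) = true := by decide +kernel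
theorem m6 : chkL 20 983040 6 (T.relsM .f) = true := by decide +kernel
theorem m7 : chkL 20 983040 7 (T.relsM .f) = true := by decide +kernel
theorem m8 : chkL 20 983040 8 (T.relsM .f) = true := by decide +kernel
theorem m9 : chkL 20 983040 9 (T.relsM .f) = true := by decide +kernel
theorem m10 : chkL 20 983040 10 (T.relsM .f) = true := by decide +kernel
theorem m11 : chkL 20 983040 11 (T.relsM .f) = true := by decide +kernel
theorem m12 : chkL 20 983040 12 (T.relsM .f) = true := by decide +kernel
theorem m13 : chkL 20 983040 13 (T.relsM .f) = true := by decide +kernel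
theorem m14 : chkL 20 983040 14 (T.relsM .f) = true := by decide +kernel
theorem m15 : chkL 20 983040 15 (T.relsM .f) = true := by decide +kernel
theorem m16 : chkL 20 983040 16 (T.relsM .f) = true := by decide +kernel
theorem m17 : chkL 20 983040 17 (T.relsM .f) = true := by decide +kernel
theorem m18 : chkL 20 983040 18 (T.relsM .f) = true := by decide +kernel
theorem m19 : chkL 20 983040 19 (T.relsM .f) = true := by decide +kernel

end Cfsg.Agent.Fischer.TriChkF
end

-- part: Fischer/TriChkE
section
/-! Kernel checks: the word of length 63. -/

set_option autoImplicit false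
set_option maxRecDepth 100000
set_option Elab.async false

namespace Cfsg.Agent.Fischer.TriChkE

open Cfsg.Agent.Fischer.Fi24RepLib Cfsg.Agent.Fischer.TriDef

theorem e0 : chkL 20 983040 0 T.relsE = true := by decide +kernel
theorem e1 : chkL 20 983040 1 T.relsE = true := by decide +kernel
theorem e2 : chkL 20 983040 2 T.relsE = true := by decide +kernel
theorem e3 : chkL 20 983040 3 T.relsE = true := by decide +kernel
theorem e4 : chkL 20 983040 4 T.relsE = true := by decide +kernel
theorem e5 : chkL 20 983040 5 T.relsE = true := by decide +kernel
theorem e6 : chkL 20 983040 6 T.relsE = true := by decide +kernel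
theorem e7 : chkL 20 983040 7 T.relsE = true := by decide +kernel
theorem e8 : chkL 20 983040 8 T.relsE = true := by decide +kernel
theorem e9 : chkL 20 983040 9 T.relsE = true := by decide +kernel
theorem e10 : chkL 20 983040 10 T.relsE = true := by decide +kernel
theorem e11 : chkL 20 983040 11 T.relsE = true := by decide +kernel
theorem e12 : chkL 20 983040 12 T.relsE = true := by decide +kernel
theorem e13 : chkL 20 983040 13 T.relsE = true := by decide +kernel
theorem e14 : chkL 20 983040 14 T.relsE = true := by decide +kernel
theorem e15 : chkL 20 983040 15 T.relsE = true := by decide +kernel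
theorem e16 : chkL 20 983040 16 T.relsE = true := by decide +kernel
theorem e17 : chkL 20 983040 17 T.relsE = true := by decide +kernel
theorem e18 : chkL 20 983040 18 T.relsE = true := by decide +kernel
theorem e19 : chkL 20 983040 19 T.relsE = true := by decide +kernel

end Cfsg.Agent.Fischer.TriChkE
end

-- part: Fischer/TriPath
section
/-! Kernel checks of the enumeration of the threefold cover: the exceptional edges, the tree, the base point. -/

set_option autoImplicit false
set_option maxRecDepth 100000
set_option Elab.async false
set_option linter.constructorNameAsVariable false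

namespace Cfsg.Agent.Fischer.TriPath

open Cfsg.Agent.Lib.PermNet Cfsg.Agent.SporRec.CosetBulk Cfsg.Agent.SporRec.CosetBulk2
  Cfsg.Agent.Fischer.TriTwo Cfsg.Agent.Fischer.TriSound Cfsg.Agent.Fischer.TriDef Cfsg.Agent.Fischer.TriLev
open Cfsg.Spor.Fi24 (Gen)

/-- the check of an exceptional edge -/
noncomputable def chk (a : Gen) (s : ℕ × ℕ) : Bool := pathK T lev (valK (lev a) s.1) (path s.2) (snd a) s.1

theorem c_a0 : chk .a (301830, 2) = true := by decide +kernel
theorem c_a1 : chk .a (6, 37) = true := by decide +kernel
theorem c_a2 : chk .a (17270, 9) = true := by decide +kernel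
theorem c_f0 : chk .f (77158, 14) = true := by decide +kernel
theorem c_f1 : chk .f (194815, 63) = true := by decide +kernel
theorem c_c0 : chk .c (269618, 4) = true := by decide +kernel
theorem c_c1 : chk .c (907112, 4) = true := by decide +kernel
theorem c_d0 : chk .d (562521, 33) = true := by decide +kernel
theorem c_d1 : chk .d (635842, 61) = true := by decide +kernel

/-- pairwise disjoint masks: kernel check -/
noncomputable def disjL (l : List ℕ) : ℕ → Bool :=
  List.rec (motive := fun _ => ℕ → Bool) (fun _ => true)
    (fun p _ ih acc => and (Nat.beq (Nat.land p acc) 0) (seqB (Nat.lor p acc) ih)) l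

theorem disj : disjL (gens.map treeF) 0 = true := by decide +kernel

theorem r_l : tb (treeF .l) 0 = false := by decide +kernel
theorem r_k : tb (treeF .k) 0 = false := by decide +kernel
theorem r_a : tb (treeF .a) 0 = false := by decide +kernel
theorem r_b : tb (treeF .b) 0 = false := by decide +kernel
theorem r_c : tb (treeF .c) 0 = false := by decide +kernel
theorem r_d : tb (treeF .d) 0 = false := by decide +kernel
theorem r_e : tb (treeF .e) 0 = false := by decide +kernel
theorem r_f : tb (treeF .f) 0 = false := by decide +kernel
theorem r_g : tb (treeF .g) 0 = false := by decide +kernel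
theorem r_j : tb (treeF .j) 0 = false := by decide +kernel
theorem r_h : tb (treeF .h) 0 = false := by decide +kernel
theorem r_i : tb (treeF .i) 0 = false := by decide +kernel

theorem rootT : Nat.beq (TriNet.pi.pt 308096) 0 = true := by decide +kernel

theorem rootD : tb (D false) 0 = true := by decide +kernel

theorem size : Nat.beq (Nat.shiftRight (D false) 983040) 0 = true := by decide +kernel

theorem sizeU : Nat.beq (Nat.shiftRight Cfsg.Agent.Fischer.Fi24RepOrb.UG 327680) 0 = true := by decide +kernel

end Cfsg.Agent.Fischer.TriPath
end
end

-- part: Fischer/TriCovL_mg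
section
set_option linter.all false

-- part: Fischer/TriCovL
section
/-! Kernel checks of the enumeration of the threefold cover: edges of the generator l. -/

set_option autoImplicit false
set_option maxRecDepth 100000
set_option Elab.async false

namespace Cfsg.Agent.Fischer.TriCovL

open Cfsg.Agent.Lib.PermNet Cfsg.Agent.SporRec.CosetBulk Cfsg.Agent.SporRec.CosetBulk2
  Cfsg.Agent.Fischer.TriTwo Cfsg.Agent.Fischer.TriSound Cfsg.Agent.Fischer.TriDef Cfsg.Agent.Fischer.TriLev
open Cfsg.Spor.Fi24 (Gen)

theorem cov : coverD (D (snd .l)) (TriLev.cov .l) = true := by decide +kernel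
theorem sym : mapApp (net .l) (lev .l) = lev .l := by decide +kernel
theorem dom : Nat.beq ((net .l).app (D (snd .l))) (D (snd .l)) = true := by decide +kernel
theorem fix : Nat.beq ((net .l).pt (root (snd .l))) (root (snd .l)) = true := by decide +kernel

end Cfsg.Agent.Fischer.TriCovL
end

-- part: Fischer/TriCovI
section
/-! Kernel checks of the enumeration of the threefold cover: edges of the generator i. -/

set_option autoImplicit false
set_option maxRecDepth 100000
set_option Elab.async false

namespace Cfsg.Agent.Fischer.TriCovI

open Cfsg.Agent.Lib.PermNet Cfsg.Agent.SporRec.CosetBulk Cfsg.Agent.SporRec.CosetBulk2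
  Cfsg.Agent.Fischer.TriTwo Cfsg.Agent.Fischer.TriSound Cfsg.Agent.Fischer.TriDef Cfsg.Agent.Fischer.TriLev
open Cfsg.Spor.Fi24 (Gen)

theorem cov : coverD (D (snd .i)) (TriLev.cov .i) = true := by decide +kernel
theorem sym : mapApp (net .i) (lev .i) = lev .i := by decide +kernel
theorem dom : Nat.beq ((net .i).app (D (snd .i))) (D (snd .i)) = true := by decide +kernel
theorem fix : Nat.beq ((net .i).pt (root (snd .i))) (root (snd .i)) = true := by decide +kernel

end Cfsg.Agent.Fischer.TriCovI
end
end
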