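import Mathlib
import Cfsg.Prelude.Def_SporadicB
set_option linter.all false

/-!
# Rank three classes of 3-transpositions (abstract lemmas)

A group `G` acting transitively on `X` with a base point `x0`, an equivariant map `t : X → G`
(conjugation on `G`), and point stabiliser with three orbits `{x0}`, `(stab x0) • c`,
`(stab x0) • b`, where `t c` commutes with `t x0` and `t b` braids with `t x0`.
-/

set_option autoImplicit false

namespace Cfsg.Agent.Fischer.Abstract

open Cfsg

/-- Rank 3 data of a class of 3-transpositions, indexed by a `G`-set `X`. -/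
structure Rank3 (G X : Type*) [Group G] [MulAction G X] where
  t : X → G
  x0 : X
  c : X
  b : X
  map_smul : ∀ (g : G) (x : X), t (g • x) = g * t x * g⁻¹
  trans : ∀ x : X, ∃ g : G, g • x0 = x
  rank3 : ∀ x : X, x = x0 ∨ (∃ h : G, h • x0 = x0 ∧ h • c = x) ∨ (∃ h : G, h • x0 = x0 ∧ h • b = x)
  sq : t x0 * t x0 = 1
  comm_c : t x0 * t c = t c * t x0
  ne_c : t c ≠ t x0
  braid_b : t x0 * t b * t x0 = t b * t x0 * t b
  ncomm_b : t x0 * t b ≠ t b * t x0
  gen : Subgroup.closure (Set.range t) = ⊤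

namespace Rank3

variable {G X : Type*} [Group G] [MulAction G X] (R : Rank3 G X)

/-- two points commute if their transpositions do -/
def Com (x y : X) : Prop := R.t x * R.t y = R.t y * R.t x

theorem com_def (x y : X) : R.Com x y ↔ R.t x * R.t y = R.t y * R.t x := Iff.rfl

theorem com_symm {x y : X} (h : R.Com x y) : R.Com y x := Eq.symm h

theorem com_comm {x y : X} : R.Com x y ↔ R.Com y x := ⟨R.com_symm, R.com_symm⟩

theorem com_self (x : X) : R.Com x x := rfl

theorem com_smul (g : G) (x y : X) : R.Com (g • x) (g • y) ↔ R.Com x y := by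
  unfold Com
  rw [R.map_smul, R.map_smul]
  constructor
  · intro h
    have : g⁻¹ * (g * R.t x * g⁻¹ * (g * R.t y * g⁻¹)) * g = g⁻¹ * (g * R.t y * g⁻¹ * (g * R.t x * g⁻¹)) * g := by
      rw [h]
    simpa [mul_assoc] using this
  · intro h
    have : g * (R.t x * R.t y) * g⁻¹ = g * (R.t y * R.t x) * g⁻¹ := by rw [h]
    simpa [mul_assoc] using this

theorem com_x0_c : R.Com R.x0 R.c := R.comm_c

theorem not_com_x0_b : ¬ R.Com R.x0 R.b := R.ncomm_b

theorem c_ne_x0 : R.c ≠ R.x0 := fun h => R.ne_c (by rw [h])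

theorem b_ne_x0 : R.b ≠ R.x0 := fun h => R.not_com_x0_b (by rw [h]; exact R.com_self _)

theorem smul_comm_of_fix {g : G} {x : X} (h : g • x = x) : g * R.t x = R.t x * g := by
  have := R.map_smul g x
  rw [h] at this
  calc g * R.t x = (g * R.t x * g⁻¹) * g := by group
    _ = R.t x * g := by rw [← this]

/-- points whose transposition equals that of the base point -/
theorem eq_x0_of_t_eq {y : X} (h : R.t y = R.t R.x0) : y = R.x0 := by
  rcases R.rank3 y with h0 | ⟨g, hg, hy⟩ | ⟨g, hg, hy⟩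
  · exact h0
  · exfalso
    apply R.ne_c
    have h1 := R.map_smul g R.c
    rw [hy, h] at h1
    have h2 := R.smul_comm_of_fix hg
    have : R.t R.c = g⁻¹ * (g * R.t R.c * g⁻¹) * g := by group
    rw [this, ← h1, mul_assoc, ← h2]
    group
  · exfalso
    have h3 : ¬ R.Com R.x0 y := by
      rw [← hy]
      have := R.com_smul g R.x0 R.b
      rw [hg] at this
      rw [this]
      exact R.not_com_x0_b
    apply h3
    unfold Com
    rw [h]

theorem t_injective : Function.Injective R.t := by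
  intro x y h
  obtain ⟨g, hg⟩ := R.trans y
  have h1 : R.t (g⁻¹ • x) = R.t R.x0 := by
    rw [R.map_smul, h, ← hg, R.map_smul]
    group
  have h2 := R.eq_x0_of_t_eq h1
  rw [← hg, ← h2]
  simp

theorem t_inj {x y : X} : R.t x = R.t y ↔ x = y := R.t_injective.eq_iff

theorem smul_eq_iff_comm (g : G) (x : X) : g • x = x ↔ g * R.t x = R.t x * g := by
  constructor
  · exact R.smul_comm_of_fix
  · intro h
    apply R.t_injective
    rw [R.map_smul, h]
    group

theorem t_smul_self (x : X) : R.t x • x = x := by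
  rw [R.smul_eq_iff_comm]

theorem t_smul_eq_iff (x y : X) : R.t x • y = y ↔ R.Com x y := R.smul_eq_iff_comm _ _

theorem sq' (x : X) : R.t x * R.t x = 1 := by
  obtain ⟨g, rfl⟩ := R.trans x
  rw [R.map_smul]
  calc g * R.t R.x0 * g⁻¹ * (g * R.t R.x0 * g⁻¹) = g * (R.t R.x0 * R.t R.x0) * g⁻¹ := by group
    _ = 1 := by rw [R.sq]; group

theorem t_inv (x : X) : (R.t x)⁻¹ = R.t x := inv_eq_of_mul_eq_one_left (R.sq' x)

theorem t_x0_ne_one : R.t R.x0 ≠ 1 := by
  intro h
  apply R.ncomm_b
  rw [h]; simp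

theorem t_ne_one (x : X) : R.t x ≠ 1 := by
  obtain ⟨g, rfl⟩ := R.trans x
  rw [R.map_smul]
  intro h
  apply R.t_x0_ne_one
  have : R.t R.x0 = g⁻¹ * (g * R.t R.x0 * g⁻¹) * g := by group
  rw [this, h]; group

theorem orderOf_t (x : X) : orderOf (R.t x) = 2 :=
  orderOf_eq_prime (by rw [pow_two]; exact R.sq' x) (R.t_ne_one x)

theorem com_or_braid (x y : X) : R.Com x y ∨ R.t x * R.t y * R.t x = R.t y * R.t x * R.t y := by
  obtain ⟨g, rfl⟩ := R.trans x
  obtain ⟨z, rfl⟩ : ∃ z, y = g • z := ⟨g⁻¹ • y, by simp⟩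
  rcases R.rank3 z with h0 | ⟨h, hh, hz⟩ | ⟨h, hh, hz⟩
  · left; rw [h0]; exact R.com_self _
  · left
    rw [R.com_smul, ← hz]
    have := R.com_smul h R.x0 R.c
    rw [hh] at this
    rw [this]; exact R.com_x0_c
  · right
    have key : R.t R.x0 * R.t z * R.t R.x0 = R.t z * R.t R.x0 * R.t z := by
      have e := R.map_smul h R.x0
      rw [hh] at e
      have : R.t R.x0 * R.t z * R.t R.x0 = h * (R.t R.x0 * R.t R.b * R.t R.x0) * h⁻¹ := by
        rw [← hz, R.map_smul]
        nth_rewrite 1 [e]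
        nth_rewrite 2 [e]
        group
      rw [this, R.braid_b, ← hz, R.map_smul]
      nth_rewrite 2 [e]
      group
    rw [R.map_smul, R.map_smul]
    calc g * R.t R.x0 * g⁻¹ * (g * R.t z * g⁻¹) * (g * R.t R.x0 * g⁻¹)
        = g * (R.t R.x0 * R.t z * R.t R.x0) * g⁻¹ := by group
      _ = g * (R.t z * R.t R.x0 * R.t z) * g⁻¹ := by rw [key]
      _ = g * R.t z * g⁻¹ * (g * R.t R.x0 * g⁻¹) * (g * R.t z * g⁻¹) := by group

theorem com_x0_iff {y : X} : R.Com R.x0 y ↔ y = R.x0 ∨ ∃ h : G, h • R.x0 = R.x0 ∧ h • R.c = y := by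
  constructor
  · intro hc
    rcases R.rank3 y with h0 | h1 | ⟨h, hh, hz⟩
    · exact Or.inl h0
    · exact Or.inr h1
    · exfalso
      have := R.com_smul h R.x0 R.b
      rw [hh, hz] at this
      exact R.not_com_x0_b (this.1 hc)
  · rintro (rfl | ⟨h, hh, rfl⟩)
    · exact R.com_self _
    · have := R.com_smul h R.x0 R.c
      rw [hh] at this
      exact this.2 R.com_x0_c

theorem not_com_x0_iff {y : X} : ¬ R.Com R.x0 y ↔ ∃ h : G, h • R.x0 = R.x0 ∧ h • R.b = y := by
  constructor
  · intro hc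
    rcases R.rank3 y with h0 | ⟨h, hh, hz⟩ | h1
    · exact absurd (by rw [h0]; exact R.com_self _) hc
    · exfalso
      apply hc
      have := R.com_smul h R.x0 R.c
      rw [hh, hz] at this
      exact this.2 R.com_x0_c
    · exact h1
  · rintro ⟨h, hh, rfl⟩
    have := R.com_smul h R.x0 R.b
    rw [hh] at this
    rw [this]
    exact R.not_com_x0_b

/-- the range of `t` is a class of 3-transpositions -/
theorem isThreeTranspositionClass : IsThreeTranspositionClass (Set.range R.t) := by
  refine ⟨⟨?_, ?_⟩, ⟨R.t R.x0, ⟨R.x0, rfl⟩, ?_⟩, R.gen⟩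
  · rintro d ⟨x, rfl⟩
    exact R.orderOf_t x
  · rintro d ⟨x, rfl⟩ e ⟨y, rfl⟩
    rcases R.com_or_braid x y with h | h
    · left
      unfold Com at h
      calc (R.t x * R.t y) ^ 2 = R.t x * (R.t y * R.t x) * R.t y := by
            simp only [pow_two, mul_assoc]
        _ = R.t x * (R.t x * R.t y) * R.t y := by rw [h]
        _ = (R.t x * R.t x) * (R.t y * R.t y) := by group
        _ = 1 := by rw [R.sq', R.sq', one_mul]
    · right
      calc (R.t x * R.t y) ^ 3 = (R.t x * R.t y * R.t x) * (R.t y * R.t x * R.t y) := by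
            simp only [pow_succ, pow_zero, one_mul, mul_assoc]
        _ = (R.t x * R.t y * R.t x) * (R.t x * R.t y * R.t x) := by rw [← h]
        _ = R.t x * R.t y * (R.t x * R.t x) * R.t y * R.t x := by group
        _ = R.t x * (R.t y * R.t y) * R.t x := by rw [R.sq']; group
        _ = 1 := by rw [R.sq', mul_one, R.sq']
  · ext g
    change (∃ x, R.t x = g) ↔ IsConj (R.t R.x0) g
    rw [isConj_iff]
    constructor
    · rintro ⟨x, rfl⟩
      obtain ⟨h, rfl⟩ := R.trans x
      exact ⟨h, (R.map_smul h R.x0).symm⟩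
    · rintro ⟨h, rfl⟩
      exact ⟨h • R.x0, R.map_smul h R.x0⟩

theorem card_range : Nat.card (Set.range R.t) = Nat.card X :=
  (Nat.card_congr (Equiv.ofInjective R.t R.t_injective)).symm

theorem mem_centralizer_iff (g : G) (x : X) :
    g ∈ Subgroup.centralizer ({R.t x} : Set G) ↔ g • x = x := by
  rw [R.smul_eq_iff_comm, Subgroup.mem_centralizer_singleton_iff]

theorem centralizer_eq_stabilizer (x : X) :
    Subgroup.centralizer ({R.t x} : Set G) = MulAction.stabilizer G x := by
  ext g
  rw [R.mem_centralizer_iff, MulAction.mem_stabilizer_iff]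

end Rank3

end Cfsg.Agent.Fischer.Abstract
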