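import Cfsg.Agent.Fischer.Bound322
import Cfsg.Agent.Fischer.Fi22Sub
import Cfsg.Agent.S0292
import Cfsg.Agent.S0295
set_option linter.all false

/-!
`H8 ≅ PΩ₇(3)`, and the subgroup `⟨b, …, i⟩` of the presented `Fi₂₂` is isomorphic to it.
-/

set_option autoImplicit false

namespace Cfsg.Agent.Fischer.Y322Iso

open Cfsg
open Cfsg.Agent.Fischer.Derived Cfsg.Agent.Fischer.Y322 Cfsg.Agent.Fischer.Bound322

theorem simple : IsSimpleGroup (POmega (ZMod 3) (quadFormOdd 3 (ZMod 3))) :=
  Cfsg.Agent.S0295.result (by rw [ZMod.card]; decide) 3 le_rfl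

theorem card_POmega : Nat.card (POmega (ZMod 3) (quadFormOdd 3 (ZMod 3))) = 4585351680 := by
  have h := Cfsg.Agent.S0292.result (F := ZMod 3) (q := 3) (ZMod.card 3) (by decide) 3 le_rfl
  have h2 : (3 : ℕ) ^ (3 ^ 2) * ∏ i ∈ Finset.range 3, (3 ^ (2 * (i + 1)) - 1) = 2 * 4585351680 := by
    rw [Finset.prod_range_succ, Finset.prod_range_succ, Finset.prod_range_succ, Finset.prod_range_zero]
    norm_num
  rw [h2] at h
  exact Nat.eq_of_mul_eq_mul_left (by norm_num) h

theorem toPOmega_bijective : Function.Bijective toPOmega := by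
  have hf := H8_finite
  have hs := toPOmega_surjective simple
  have : Finite (POmega (ZMod 3) (quadFormOdd 3 (ZMod 3))) := Finite.of_surjective _ hs
  refine (Nat.bijective_iff_surjective_and_card _).2 ⟨hs, le_antisymm ?_ ?_⟩
  · exact card_H8_le.trans card_POmega.ge
  · exact Nat.card_le_card_of_surjective _ hs

/-- `H8 ≅ PΩ₇(3)`. -/
noncomputable def equiv : H8 ≃* POmega (ZMod 3) (quadFormOdd 3 (ZMod 3)) :=
  MulEquiv.ofBijective toPOmega toPOmega_bijective

theorem card_H8 : Nat.card H8 = 4585351680 := by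
  rw [Nat.card_congr equiv.toEquiv, card_POmega]

theorem simple_H8 : IsSimpleGroup H8 := by
  have := simple
  exact equiv.isSimpleGroup

/-- A nontrivial homomorphism from `H8` is injective. -/
theorem injective_of_ne {G : Type*} [Group G] (f : H8 →* G) (h : ∃ x, f x ≠ 1) : Function.Injective f := by
  rw [← MonoidHom.ker_eq_bot_iff]
  rcases simple_H8.eq_bot_or_eq_top_of_normal f.ker inferInstance with h1 | h1
  · exact h1
  · obtain ⟨x, hx⟩ := h
    exact absurd (MonoidHom.mem_ker.1 (h1 ▸ Subgroup.mem_top x)) hx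

/-! ### The subgroup of the presented `Fi₂₂` -/

open Cfsg.Spor Cfsg.Agent.Fischer.Fi22Sub Cfsg.Agent.Fischer.Index14080

/-- The generators `b, …, i` of `Fi₂₂`. -/
def t8 (k : Fin 8) : Fi22 := s9 k.succ

theorem lab_succ : ∀ i j : Fin 8, lab9 i.succ j.succ = lab i j := by decide

theorem t8_liftable : M8.IsLiftable t8 := by
  intro i j
  have h := Fi22Sub.rels.cox i.succ j.succ
  rw [lab_succ] at h
  exact h

theorem t8_spider : ev t8 spider ^ 10 = 1 := by
  have h := Fi22Sub.rels.spider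
  exact h

theorem t8_e7 : ev t8 e7w ^ 9 = 1 := by
  have h := relator_eq_one (r := (Fi22.b * Fi22.c * Fi22.d * Fi22.e * Fi22.f * Fi22.g * Fi22.h) ^ 9)
    (Or.inr (by simp [Fi22.extra]))
  rw [map_pow] at h
  simp only [map_mul] at h
  rw [e7w]
  simp only [ev_cons, ev_nil, mul_one]
  simp only [mul_assoc] at h
  exact h

/-- The homomorphism from `H8`. -/
noncomputable def toFi : H8 →* Fi22 := Y322.lift t8_liftable t8_spider t8_e7

theorem range_toFi : toFi.range = Fi22Sub.H := by
  rw [toFi, range_lift, Fi22Sub.H_eq, Level.Hl]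
  congr 1
  ext x
  constructor
  · rintro ⟨k, rfl⟩
    refine ⟨k.succ, ?_, rfl⟩
    show k.succ ∈ LB
    revert k; decide
  · rintro ⟨k, hk, rfl⟩
    have hk' : k ∈ LB := hk
    have hk0 : k ≠ 0 := by rintro rfl; exact absurd hk' (by decide)
    obtain ⟨j, rfl⟩ := Fin.exists_succ_eq.2 hk0
    exact ⟨j, rfl⟩

theorem t8_ne : t8 0 ≠ 1 := by
  intro h
  -- then all generators are trivial and the index would be 1
  have hadj : ∀ i j : Fin 9, lab9 i j = 3 → s9 i = 1 → s9 j = 1 := by
    intro i j hij hi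
    have h1 := Fi22Sub.rels.cox i j
    have h2 := Fi22Sub.rels.cox j j
    rw [lab9_diag, pow_one] at h2
    rw [hij, hi, one_mul, pow_succ, pow_two, h2, one_mul] at h1
    exact h1
  have h1 : s9 1 = 1 := h
  have h0 : s9 0 = 1 := hadj 1 0 (by decide) h1
  have h2 : s9 2 = 1 := hadj 1 2 (by decide) h1
  have h3 : s9 3 = 1 := hadj 2 3 (by decide) h2
  have h4 : s9 4 = 1 := hadj 3 4 (by decide) h3
  have h5 : s9 5 = 1 := hadj 4 5 (by decide) h4
  have h6 : s9 6 = 1 := hadj 5 6 (by decide) h5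
  have h7 : s9 7 = 1 := hadj 3 7 (by decide) h3
  have h8 : s9 8 = 1 := hadj 7 8 (by decide) h7
  have hall : ∀ k, s9 k = 1 := by
    intro k
    fin_cases k
    · exact h0
    · exact h1
    · exact h2
    · exact h3
    · exact h4
    · exact h5
    · exact h6
    · exact h7
    · exact h8
  have htop : (⊤ : Subgroup Fi22) = ⊥ := by
    rw [← closure_s9, Subgroup.closure_eq_bot_iff]
    rintro _ ⟨k, rfl⟩
    exact hall k
  have hidx := Fi22Sub.main.1
  have hH : Fi22Sub.H = ⊤ := by
    rw [eq_top_iff, htop]; exact bot_le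
  rw [hH, Subgroup.index_top] at hidx
  exact absurd hidx (by norm_num)

theorem toFi_injective : Function.Injective toFi :=
  injective_of_ne toFi ⟨x8 0, by rw [toFi, lift_x8]; exact t8_ne⟩

/-- `⟨b, …, i⟩ ≅ H8`. -/
noncomputable def subEquiv : Fi22Sub.H ≃* H8 :=
  ((MonoidHom.ofInjective toFi_injective).trans (MulEquiv.subgroupCongr range_toFi)).symm

theorem card_H : Nat.card Fi22Sub.H = 4585351680 := by
  rw [Nat.card_congr subEquiv.toEquiv, card_H8]

theorem simple_H : IsSimpleGroup Fi22Sub.H := by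
  have := simple_H8
  exact subEquiv.isSimpleGroup

theorem main : Nonempty (Fi22Sub.H ≃* POmega (ZMod 3) (quadFormOdd 3 (ZMod 3))) :=
  ⟨subEquiv.trans equiv⟩

end Cfsg.Agent.Fischer.Y322Iso
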